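import Mathlib

/-!
# Symplectic-type group of linear maps normalised by a map close to the identity

If `σ : P → End W` sends the derived subgroup and centre `{1, z}` to `±1` then
`End W = ⨁ M σ(g)` over `P / ⟨z⟩`, `M` the commutant of `P`. A map `B` with
`rank (B - 1) ≤ 2` normalising `σ P` therefore bounds `dim W`.
-/

set_option autoImplicit false
set_option linter.unusedSectionVars false

namespace Cfsg.Agent.Lib.JordanThree

section linear

variable {k : Type*} [Field k] {W : Type*} [AddCommGroup W] [Module k W] [FiniteDimensional k W]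

/-- The commutant of a single map. -/
def commSub (B : Module.End k W) : Submodule k (Module.End k W) where
  carrier := {X | B * X = X * B}
  zero_mem' := by simp
  add_mem' := fun {a b} ha hb => by
    show B * (a + b) = (a + b) * B
    rw [mul_add, add_mul, ha, hb]
  smul_mem' := fun c a ha => by
    show B * (c • a) = (c • a) * B
    rw [mul_smul_comm, smul_mul_assoc, ha]

theorem finrank_commSub_ge (B : Module.End k W) {r : ℕ}
    (h : Module.finrank k (LinearMap.range (B - 1)) ≤ r) :
    (Module.finrank k W - r) * (Module.finrank k W - r) ≤ Module.finrank k (commSub B) := by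
  set I := LinearMap.range (B - 1)
  set K := LinearMap.ker (B - 1)
  let Φ : ((W ⧸ I) →ₗ[k] K) →ₗ[k] commSub B :=
    LinearMap.codRestrict (commSub B)
      ((LinearMap.llcomp k W K W K.subtype).comp (LinearMap.lcomp k K I.mkQ)) (fun f => by
        show B * _ = _ * B
        refine LinearMap.ext fun w => ?_
        show B (f (Submodule.Quotient.mk w) : W) = (f (Submodule.Quotient.mk (B w)) : W)
        have h1 : (B - 1) (f (Submodule.Quotient.mk w) : W) = 0 :=
          LinearMap.mem_ker.1 (f (Submodule.Quotient.mk w)).2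
        rw [LinearMap.sub_apply, Module.End.one_apply, sub_eq_zero] at h1
        rw [h1]
        congr 2
        exact ((Submodule.Quotient.eq I).2 ⟨w, by rw [LinearMap.sub_apply, Module.End.one_apply]⟩).symm)
  have hΦ : Function.Injective Φ := fun f g e => by
    ext w
    exact congrArg (fun X : commSub B => (X : Module.End k W) w) e
  refine le_trans ?_ (LinearMap.finrank_le_finrank_of_injective hΦ)
  rw [Module.finrank_linearMap]
  have h1 : Module.finrank k (W ⧸ I) + Module.finrank k I = Module.finrank k W :=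
    Submodule.finrank_quotient_add_finrank I
  have h1' : Module.finrank k I ≤ r := h
  have h2 : Module.finrank k I + Module.finrank k K = Module.finrank k W :=
    LinearMap.finrank_range_add_finrank_ker (B - 1)
  exact Nat.mul_le_mul (by omega) (by omega)

end linear

section symplectic

variable {k : Type*} [Field k] {W : Type*} [AddCommGroup W] [Module k W] [FiniteDimensional k W]
  {P : Type*} [Group P] [Fintype P] (σ : P →* Module.End k W) (z : P)

/-- The commutant of `σ`. -/
def commutant : Submodule k (Module.End k W) := ⨅ g : P, commSub (σ g)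

variable {σ z}

theorem mem_commutant {X : Module.End k W} : X ∈ commutant σ ↔ ∀ g, σ g * X = X * σ g :=
  Submodule.mem_iInf _

variable (σ) in
/-- The coefficient at `g`. -/
noncomputable def coef (g : P) : Module.End k W →ₗ[k] Module.End k W :=
  ∑ y : P, (LinearMap.mulLeft k (σ y)).comp (LinearMap.mulRight k (σ g⁻¹ * σ y⁻¹))

theorem coef_apply (g : P) (X : Module.End k W) :
    coef σ g X = ∑ y : P, σ y * (X * (σ g⁻¹ * σ y⁻¹)) := by
  simp [coef, LinearMap.sum_apply, mul_assoc]

theorem coef_mem (g : P) (X : Module.End k W) : coef σ g X ∈ commutant σ := by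
  refine mem_commutant.2 fun u => ?_
  rw [coef_apply, Finset.mul_sum, Finset.sum_mul]
  refine Fintype.sum_equiv (Equiv.mulLeft u) _ _ fun y => ?_
  show σ u * (σ y * (X * (σ g⁻¹ * σ y⁻¹))) = σ (u * y) * (X * (σ g⁻¹ * σ (u * y)⁻¹)) * σ u
  rw [map_mul, mul_inv_rev, map_mul]
  simp only [mul_assoc]
  rw [← map_mul σ u⁻¹ u, inv_mul_cancel, map_one, mul_one]

variable (hz : σ z = -1) (hzc : ∀ g, g * z = z * g) (hzz : z * z = 1)
  (hcom : ∀ x y : P, x⁻¹ * y * x = y ∨ x⁻¹ * y * x = y * z)
  (hcen : ∀ y : P, (∀ x, x * y = y * x) → y = 1 ∨ y = z) (h2 : (2 : k) ≠ 0)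

include hz

theorem coef_mul_z (g : P) (hzz : z * z = 1) (X : Module.End k W) :
    coef σ (g * z) X = -coef σ g X := by
  rw [coef_apply, coef_apply, ← Finset.sum_neg_distrib]
  refine Finset.sum_congr rfl fun y _ => ?_
  rw [mul_inv_rev, inv_eq_of_mul_eq_one_right hzz, map_mul, hz]
  simp

include hzc hzz hcom hcen h2

theorem sum_conj_eq_zero {y : P} (h1 : y ≠ 1) (h1' : y ≠ z) : ∑ g : P, σ (g⁻¹ * y * g) = 0 := by
  obtain ⟨g₀, hg₀⟩ : ∃ g₀, g₀ * y ≠ y * g₀ := by
    by_contra h
    push Not at h
    rcases hcen y h with e | e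
    · exact h1 e
    · exact h1' e
  have e0 : g₀⁻¹ * y * g₀ = y * z := (hcom g₀ y).resolve_left fun e => hg₀ (by
    calc g₀ * y = g₀ * (g₀⁻¹ * y * g₀) := by rw [e]
      _ = _ := by group)
  have e1 : ∑ g : P, σ (g⁻¹ * y * g) = -∑ g : P, σ (g⁻¹ * y * g) := by
    rw [← Finset.sum_neg_distrib]
    refine Fintype.sum_equiv (Equiv.mulLeft g₀⁻¹) _ _ fun g => ?_
    show σ (g⁻¹ * y * g) = -σ ((g₀⁻¹ * g)⁻¹ * y * (g₀⁻¹ * g))
    have e0' : g₀ * y * g₀⁻¹ = y * z := by
      calc g₀ * y * g₀⁻¹ = g₀ * (y * z) * g₀⁻¹ * z := by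
            rw [← mul_assoc g₀ y z, mul_assoc (g₀ * y) z g₀⁻¹, ← hzc g₀⁻¹, ← mul_assoc (g₀ * y) g₀⁻¹ z,
              mul_assoc (g₀ * y * g₀⁻¹) z z, hzz, mul_one]
        _ = g₀ * (g₀⁻¹ * y * g₀) * g₀⁻¹ * z := by rw [e0]
        _ = y * z := by group
    rw [show (g₀⁻¹ * g)⁻¹ * y * (g₀⁻¹ * g) = g⁻¹ * (g₀ * y * g₀⁻¹) * g by group, e0']
    rw [show g⁻¹ * (y * z) * g = g⁻¹ * y * g * z by rw [mul_assoc, mul_assoc y z g, ← hzc g]; group,
      map_mul _ _ z, hz]
    simp
  have := add_eq_zero_iff_eq_neg.2 e1
  rw [← two_smul k] at this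
  exact (smul_eq_zero.1 this).resolve_left h2

theorem sum_conj [Nontrivial (Module.End k W)] (y : P) [Decidable (y = 1)] [Decidable (y = z)] :
    ∑ g : P, σ (g⁻¹ * y * g) =
      if y = 1 then (Fintype.card P : k) • (1 : Module.End k W)
      else if y = z then -((Fintype.card P : k) • (1 : Module.End k W)) else 0 := by
  split_ifs with h1 h1'
  · subst h1
    simp [Nat.cast_smul_eq_nsmul]
  · subst h1'
    rw [Finset.sum_congr rfl (g := fun _ => -1) fun g _ => by
      rw [mul_assoc, ← hzc g, ← mul_assoc, inv_mul_cancel, one_mul, hz]]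
    simp [Nat.cast_smul_eq_nsmul]
  · exact sum_conj_eq_zero hz hzc hzz hcom hcen h2 h1 h1'

variable [Nontrivial (Module.End k W)]

theorem one_ne_z : (1 : P) ≠ z := fun e => by
  have h := hz
  rw [← e, map_one] at h
  have h0 : (2 : k) • (1 : Module.End k W) = 0 := by
    rw [two_smul]; nth_rewrite 2 [h]; exact add_neg_cancel _
  rcases smul_eq_zero.1 h0 with h' | h'
  · exact h2 h'
  · exact one_ne_zero h'

theorem expansion (X : Module.End k W) :
    ∑ g : P, coef σ g X * σ g = (2 * Fintype.card P : k) • X := by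
  classical
  simp only [coef_apply, Finset.sum_mul]
  rw [Finset.sum_comm]
  have hne := one_ne_z hz hzc hzz hcom hcen h2
  have e : ∀ y : P, ∑ g : P, σ y * (X * (σ g⁻¹ * σ y⁻¹)) * σ g =
      σ y * X * ∑ g : P, σ (g⁻¹ * y⁻¹ * g) := fun y => by
    rw [Finset.mul_sum]
    exact Finset.sum_congr rfl fun g _ => by simp only [map_mul, mul_assoc]
  rw [Finset.sum_congr rfl fun y _ => e y]
  simp only [sum_conj hz hzc hzz hcom hcen h2]
  rw [Finset.sum_eq_add (1 : P) z hne (fun y _ hy => ?_) (by simp) (by simp)]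
  · have e1 : (1 : P)⁻¹ = 1 := inv_one
    have e2 : z⁻¹ = z := inv_eq_of_mul_eq_one_right hzz
    rw [e1, e2, if_pos rfl, if_neg hne.symm, if_pos rfl, map_one, hz, one_mul, mul_smul_comm, mul_one,
      neg_one_mul, mul_neg, neg_mul, mul_smul_comm, mul_one, neg_neg, ← add_smul, two_mul]
  · rw [if_neg (fun h => hy.1 (inv_eq_one.1 h)),
      if_neg (fun h => hy.2 (by rw [← inv_inv y, h, inv_eq_of_mul_eq_one_right hzz])), mul_zero]

theorem coef_pick (g h : P) (Z : Module.End k W) (hZ : Z ∈ commutant σ) [DecidableEq P] :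
    coef σ g (Z * σ h) = Z * (if h * g⁻¹ = 1 then (Fintype.card P : k) • (1 : Module.End k W)
      else if h * g⁻¹ = z then -((Fintype.card P : k) • (1 : Module.End k W)) else 0) := by
  rw [← sum_conj hz hzc hzz hcom hcen h2, coef_apply, Finset.mul_sum]
  refine Fintype.sum_equiv (Equiv.inv P) _ _ fun y => ?_
  show _ = Z * σ ((y⁻¹)⁻¹ * (h * g⁻¹) * y⁻¹)
  rw [inv_inv, map_mul, map_mul, map_mul]
  simp only [← mul_assoc]
  rw [mem_commutant.1 hZ y]

variable (hk : (Fintype.card P : k) ≠ 0)

include hk

/-- A finite set of representatives modulo `z` carries a basis over the commutant. -/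
theorem finrank_eq {ι : Type*} [Fintype ι] (r : ι → P)
    (hr : ∀ g : P, ∃ i, g = r i ∨ g = r i * z) (hr' : ∀ i j, i ≠ j → r i * (r j)⁻¹ ≠ 1 ∧ r i * (r j)⁻¹ ≠ z) :
    Module.finrank k (Module.End k W) = Fintype.card ι * Module.finrank k (commutant σ) := by
  classical
  let F : Module.End k W →ₗ[k] (ι → commutant σ) :=
    LinearMap.pi fun i => LinearMap.codRestrict _ (coef σ (r i)) (coef_mem (r i))
  let G : (ι → commutant σ) →ₗ[k] Module.End k W :=
    ∑ i, (LinearMap.mulRight k (σ (r i))).comp ((commutant σ).subtype.comp (LinearMap.proj i))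
  have hF : Function.Injective F := by
    refine (injective_iff_map_eq_zero F).2 fun X hX => ?_
    have h0 : ∀ g, coef σ g X = 0 := fun g => by
      obtain ⟨i, rfl | rfl⟩ := hr g
      · exact congrArg Subtype.val (congrFun hX i)
      · rw [coef_mul_z hz _ hzz]
        exact neg_eq_zero.2 (congrArg Subtype.val (congrFun hX i))
    have := expansion hz hzc hzz hcom hcen h2 X
    simp only [h0, zero_mul, Finset.sum_const_zero] at this
    exact (smul_eq_zero.1 this.symm).resolve_left (mul_ne_zero h2 hk)
  have hG : Function.Injective G := by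
    refine (injective_iff_map_eq_zero G).2 fun f hf => funext fun j => ?_
    have h0 : coef σ (r j) (G f) = 0 := by rw [hf, map_zero]
    simp only [G, LinearMap.sum_apply, LinearMap.coe_comp, Function.comp_apply, LinearMap.proj_apply,
      Submodule.coe_subtype, LinearMap.mulRight_apply, map_sum] at h0
    rw [Finset.sum_eq_single j (fun i _ hij => ?_) (fun h => absurd (Finset.mem_univ j) h)] at h0
    · rw [coef_pick hz hzc hzz hcom hcen h2 _ _ _ (f j).2, mul_inv_cancel, if_pos rfl, mul_smul_comm,
        mul_one] at h0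
      exact Subtype.ext ((smul_eq_zero.1 h0).resolve_left hk)
    · rw [coef_pick hz hzc hzz hcom hcen h2 _ _ _ (f i).2, if_neg (hr' i j hij).1,
        if_neg (hr' i j hij).2, mul_zero]
  have h1 := LinearMap.finrank_le_finrank_of_injective hF
  have h3 := LinearMap.finrank_le_finrank_of_injective hG
  rw [Module.finrank_pi_fintype, Finset.sum_const, Finset.card_univ, smul_eq_mul] at h1 h3
  omega

/-- The fixed algebra of a normalising map is small. -/
theorem finrank_commSub_le (B : Module.End k W) (hu : IsUnit B) (τ : P ≃* P) (hB : ∀ g, B * σ g = σ (τ g) * B)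
    (T : Finset P) (hT : ∀ g : P, ∃ t ∈ T, ∃ n : ℕ, g = (τ^[n]) t ∨ g = (τ^[n]) t * z) :
    Module.finrank k (commSub B) ≤ T.card * Module.finrank k (commutant σ) := by
  classical
  let F : commSub B →ₗ[k] (↥T → commutant σ) :=
    LinearMap.pi fun i =>
      (LinearMap.codRestrict _ (coef σ (i : P)) (coef_mem (i : P))).comp (commSub B).subtype
  have hF : Function.Injective F := by
    refine (injective_iff_map_eq_zero F).2 fun X hX => ?_
    have hcov : ∀ g, B * coef σ g (X : Module.End k W) = coef σ (τ g) (X : Module.End k W) * B := by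
      intro g
      rw [coef_apply, coef_apply, Finset.mul_sum, Finset.sum_mul]
      refine Fintype.sum_equiv τ.toEquiv _ _ fun y => ?_
      show _ = σ (τ y) * ((X : Module.End k W) * (σ (τ g)⁻¹ * σ (τ y)⁻¹)) * B
      have hX' : B * (X : Module.End k W) = X * B := X.2
      rw [← map_inv τ, ← map_inv τ, ← mul_assoc B, hB, mul_assoc (σ (τ y)) B, ← mul_assoc B, hX',
        mul_assoc (X : Module.End k W) B, ← mul_assoc B, hB, mul_assoc (σ (τ g⁻¹)) B, hB]
      simp only [mul_assoc]
    have hstep : ∀ (n : ℕ) (t : P), coef σ t (X : Module.End k W) = 0 →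
        coef σ ((τ^[n]) t) (X : Module.End k W) * B ^ n = 0 := by
      intro n
      induction n with
      | zero => intro t ht; simp [ht]
      | succ n ih =>
        intro t ht
        rw [Function.iterate_succ_apply', pow_succ', ← mul_assoc, ← hcov, mul_assoc, ih t ht, mul_zero]
    have h0 : ∀ g, coef σ g (X : Module.End k W) = 0 := fun g => by
      obtain ⟨t, ht, n, hn⟩ := hT g
      have h := hstep n t (congrArg Subtype.val (congrFun hX ⟨t, ht⟩))
      have h' := (hu.pow n).mul_left_eq_zero.1 h
      rcases hn with rfl | rfl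
      · exact h'
      · rw [coef_mul_z hz _ hzz, h', neg_zero]
    have := expansion hz hzc hzz hcom hcen h2 (X : Module.End k W)
    simp only [h0, zero_mul, Finset.sum_const_zero] at this
    exact Subtype.ext ((smul_eq_zero.1 this.symm).resolve_left (mul_ne_zero h2 hk))
  have h1 := LinearMap.finrank_le_finrank_of_injective hF
  rwa [Module.finrank_pi_fintype, Finset.sum_const, Finset.card_univ, smul_eq_mul,
    Fintype.card_coe] at h1

end symplectic

end Cfsg.Agent.Lib.JordanThree
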