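import Cfsg.Agent.Lib.JordanThree.Monomial
import Cfsg.Agent.Lib.Cores.PCore
import Cfsg.Agent.Lib.Cores.Fitting
import Cfsg.Agent.Lib.Solvable.Nilpotent

/-!
# A `3'`-group normalised by a single Jordan block of size three
-/

set_option autoImplicit false
set_option linter.unusedSectionVars false

open scoped commutatorElement

namespace Cfsg.Agent.Lib.JordanThree

variable {H : Type*} [Group H] [Finite H] {W : Type*} [AddCommGroup W] [Module (ZMod 3) W]
  [Finite W] {ρ : H →* Module.End (ZMod 3) W} {R Q : Subgroup H} {b : H}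

local notation "𝕜" => ZMod 3

theorem finite_end : Module.Finite 𝕜 W := Module.Finite.of_finite

theorem zmod_three_no_sqrt : ∀ t : ZMod 3, t * t ≠ -1 := by decide

theorem two_ne : (2 : ZMod 3) ≠ 0 := by decide

theorem four_ne : (4 : ZMod 3) ≠ 0 := by decide

theorem zmod_five_cube : ∀ k : ZMod 5, k * k * k = 1 → k = 1 := by decide

/-- The three lines of the four-group. -/
theorem Setup.exists_line (S : Setup ρ R b Q) :
    ∃ q₀ ∈ Q, ∃ q₁ ∈ Q, ∃ v : W, v ≠ 0 ∧ ρ q₀ v = v ∧ ρ q₁ v = -v ∧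
      ∀ w : W, ρ q₀ w = w → ρ q₁ w = -w → ∃ t : 𝕜, t • v = w := by
  haveI : Fact (Nat.Prime 3) := ⟨Nat.prime_three⟩
  haveI : Nontrivial Q := Finite.one_lt_card_iff_nontrivial.1 (by rw [S.qcard]; norm_num)
  obtain ⟨⟨q₀, hq₀⟩, hne⟩ := exists_ne (1 : Q)
  have hq01 : q₀ ≠ 1 := fun h => hne (Subtype.ext h)
  set q₁ := b * q₀ * b⁻¹ with hq₁d
  set q₂ := b * q₁ * b⁻¹ with hq₂d
  have hq₁ : q₁ ∈ Q := S.qb q₀ hq₀
  have hq₂ : q₂ ∈ Q := S.qb q₁ hq₁
  have hb30 : b * q₂ * b⁻¹ = q₀ := by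
    rw [hq₂d, hq₁d]
    calc b * (b * (b * q₀ * b⁻¹) * b⁻¹) * b⁻¹ = b ^ 3 * q₀ * (b ^ 3)⁻¹ := by
          simp only [pow_succ, pow_zero, one_mul, mul_assoc, mul_inv_rev]
      _ = q₀ := by rw [S.b3, one_mul, inv_one, mul_one]
  have hcomm : ∀ x ∈ Q, ∀ y ∈ Q, x * y = y * x := fun x hx y hy => by
    rw [← inv_eq_of_mul_eq_one_right (S.qsq _ (Q.mul_mem hx hy)), mul_inv_rev,
      inv_eq_of_mul_eq_one_right (S.qsq _ hx), inv_eq_of_mul_eq_one_right (S.qsq _ hy)]
  have hne10 : q₁ ≠ q₀ := fun h => hq01 (S.qfix q₀ hq₀ (by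
    calc b * q₀ = b * q₀ * b⁻¹ * b := by group
      _ = q₀ * b := by rw [← hq₁d, h]))
  have hq11 : q₁ ≠ 1 := fun h => hq01 (by
    calc q₀ = b⁻¹ * q₁ * b := by rw [hq₁d]; group
      _ = 1 := by rw [h]; group)
  have hq21 : q₂ ≠ 1 := fun h => hq11 (by
    calc q₁ = b⁻¹ * q₂ * b := by rw [hq₂d]; group
      _ = 1 := by rw [h]; group)
  have hq2eq : q₂ = q₀ * q₁ := by
    have hne21 : q₂ ≠ q₁ := fun h => hne10 (by
      calc q₁ = b⁻¹ * q₂ * b := by rw [hq₂d]; group
        _ = b⁻¹ * q₁ * b := by rw [h]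
        _ = q₀ := by rw [hq₁d]; group)
    have hne20 : q₂ ≠ q₀ := fun h => hne10 (by
      rw [hq₁d]
      calc b * q₀ * b⁻¹ = b * q₂ * b⁻¹ := by rw [h]
        _ = q₀ := hb30)
    by_contra hne2
    have hpne1 : q₀ * q₁ ≠ 1 := fun h => hne10 (by
      rw [← inv_eq_of_mul_eq_one_right h, inv_eq_of_mul_eq_one_right (S.qsq _ hq₀)])
    have hpne0 : q₀ * q₁ ≠ q₀ := fun h => hq11 (mul_left_cancel (h.trans (mul_one _).symm))
    have hpne1' : q₀ * q₁ ≠ q₁ := fun h => hq01 (mul_right_cancel (h.trans (one_mul _).symm))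
    classical
    have hS : ({1, q₀, q₁, q₀ * q₁, q₂} : Finset H).card = 5 := by
      rw [Finset.card_insert_of_notMem (by simp [Ne.symm hq01, Ne.symm hq11, Ne.symm hpne1, Ne.symm hq21]),
        Finset.card_insert_of_notMem (by simp [Ne.symm hne10, Ne.symm hpne0, Ne.symm hne20]),
        Finset.card_insert_of_notMem (by simp [Ne.symm hpne1', Ne.symm hne21]),
        Finset.card_insert_of_notMem (by simp [Ne.symm hne2]), Finset.card_singleton]
    have hsub : (({1, q₀, q₁, q₀ * q₁, q₂} : Finset H) : Set H) ⊆ (Q : Set H) := by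
      intro x hx
      simp only [Finset.coe_insert, Finset.coe_singleton, Set.mem_insert_iff, Set.mem_singleton_iff] at hx
      rcases hx with rfl | rfl | rfl | rfl | rfl
      exacts [Q.one_mem, hq₀, hq₁, Q.mul_mem hq₀ hq₁, hq₂]
    have := Set.ncard_le_ncard hsub (Set.toFinite _)
    rw [Set.ncard_coe_finset, hS, ← Nat.card_coe_set_eq] at this
    have hQ4 := S.qcard
    simp only [SetLike.coe_sort_coe] at this
    omega
  set V : Submodule 𝕜 W := LinearMap.ker (ρ q₀ - 1) ⊓ LinearMap.ker (ρ q₁ + 1)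
  have hV : ∀ w, w ∈ V ↔ ρ q₀ w = w ∧ ρ q₁ w = -w := fun w => by
    simp only [V, Submodule.mem_inf, LinearMap.mem_ker, LinearMap.sub_apply, LinearMap.add_apply,
      Module.End.one_apply, sub_eq_zero, add_eq_zero_iff_eq_neg]
  have hbc : ∀ q q' : H, b * q * b⁻¹ = q' → ∀ w, ρ q' (ρ b w) = ρ b (ρ q w) := fun q q' h w => by
    rw [← h, ← rho_mul_apply, ← rho_mul_apply, inv_mul_cancel_right]
  have hVne : V ≠ ⊥ := by
    intro h0
    refine hq01 (S.eq_one_of_fix fun w => ?_)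
    -- the minus space of `q₀` splits under `q₁`
    set u := w - ρ q₀ w with hu
    have hu0 : ρ q₀ u = -u := by
      rw [hu, map_sub, ← rho_mul_apply, S.qsq q₀ hq₀, map_one, Module.End.one_apply, neg_sub]
    have hplus : u + ρ q₁ u = 0 := by
      set u' := u + ρ q₁ u with hu'
      have e0 : ρ q₀ u' = -u' := by
        rw [hu', map_add, ← rho_mul_apply, hcomm q₀ hq₀ q₁ hq₁, rho_mul_apply, hu0, map_neg, neg_add]
      have e1 : ρ q₁ u' = u' := by
        rw [hu', map_add, ← rho_mul_apply, S.qsq q₁ hq₁, map_one, Module.End.one_apply, add_comm]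
      have e2 : ρ q₂ u' = -u' := by rw [hq2eq, rho_mul_apply, e1, e0]
      have hm : ρ b⁻¹ u' ∈ V := (hV _).2 ⟨by
        have := hbc q₀ q₁ rfl (ρ b⁻¹ u')
        rw [rho_apply_inv, e1] at this
        rw [← rho_inv_apply (ρ := ρ) b (ρ q₀ (ρ b⁻¹ u')), ← this], by
        have := hbc q₁ q₂ rfl (ρ b⁻¹ u')
        rw [rho_apply_inv, e2] at this
        rw [← rho_inv_apply (ρ := ρ) b (ρ q₁ (ρ b⁻¹ u')), ← this, map_neg]⟩
      rw [h0, Submodule.mem_bot] at hm
      rw [← rho_apply_inv (ρ := ρ) b u', hm, map_zero]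
    have hm2 : ρ b (ρ b u) = 0 ∨ True := Or.inr trivial
    have e1 : ρ q₁ u = -u := eq_neg_of_add_eq_zero_right hplus
    have e2 : ρ q₂ u = u := by rw [hq2eq, rho_mul_apply, e1, map_neg, hu0, neg_neg]
    have hm : ρ b u ∈ V := (hV _).2 ⟨by rw [hbc q₂ q₀ hb30, e2], by rw [hbc q₀ q₁ rfl, hu0, map_neg]⟩
    rw [h0, Submodule.mem_bot] at hm
    have hu00 : u = 0 := by rw [← rho_inv_apply (ρ := ρ) b u, hm, map_zero]
    exact (sub_eq_zero.1 hu00).symm
  let F : V × V →ₗ[𝕜] LinearMap.range (ρ b - 1) :=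
    LinearMap.codRestrict _ (LinearMap.coprod ((ρ b - 1).comp V.subtype)
      (((ρ b - 1).comp (ρ b)).comp V.subtype)) (fun p =>
        Submodule.add_mem _ (LinearMap.mem_range_self _ _) (LinearMap.mem_range_self _ _))
  have hF : Function.Injective F := (injective_iff_map_eq_zero F).2 fun p hp => by
    obtain ⟨⟨u, hu⟩, ⟨v, hv⟩⟩ := p
    have hu' := (hV u).1 hu
    have hv' := (hV v).1 hv
    have hp' : (ρ b u - u) + (ρ b (ρ b v) - ρ b v) = 0 := congrArg Subtype.val hp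
    have au : ρ q₁ (ρ b u) = ρ b u := by rw [hbc q₀ q₁ rfl, hu'.1]
    have av : ρ q₁ (ρ b v) = ρ b v := by rw [hbc q₀ q₁ rfl, hv'.1]
    have cv : ρ q₂ (ρ b v) = -ρ b v := by rw [hbc q₁ q₂ rfl, hv'.2, map_neg]
    have av2 : ρ q₁ (ρ b (ρ b v)) = -ρ b (ρ b v) := by
      have d : ρ q₂ (ρ b (ρ b v)) = ρ b (ρ b v) := by rw [hbc q₁ q₂ rfl, av]
      have d0 : ρ q₀ (ρ b (ρ b v)) = -ρ b (ρ b v) := by rw [hbc q₂ q₀ hb30, cv, map_neg]
      rw [hq2eq, rho_mul_apply] at d
      have := congrArg (ρ q₀) d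
      rwa [← rho_mul_apply, S.qsq q₀ hq₀, map_one, Module.End.one_apply, d0] at this
    have d0 : ρ q₀ (ρ b (ρ b v)) = -ρ b (ρ b v) := by rw [hbc q₂ q₀ hb30, cv, map_neg]
    -- apply `1 + q₀`, then `1 - q₁`
    have h := congrArg (fun w => w + ρ q₀ w) hp'
    simp only [map_add, map_sub, map_zero, add_zero, hu'.1, d0] at h
    have h2 := congrArg (fun w => w - ρ q₁ w) h
    have hq1b : ∀ w, ρ q₁ (ρ q₀ w) = ρ q₀ (ρ q₁ w) := fun w => by
      rw [← rho_mul_apply, hcomm q₁ hq₁ q₀ hq₀, rho_mul_apply]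
    simp only [map_add, map_sub, map_neg, map_zero, sub_zero, au, av, av2, hu'.2, hq1b] at h2
    have hu4 : (4 : 𝕜) • u = 0 := by
      have h2' : -((4 : 𝕜) • u) = 0 := by
        rw [← h2, show (4 : 𝕜) = 1 + 1 + 1 + 1 by norm_num, add_smul, add_smul, add_smul, one_smul]
        abel
      exact neg_eq_zero.1 h2'
    have hu0 : u = 0 := (smul_eq_zero.1 hu4).resolve_left four_ne
    have hv0 : v = 0 := by
      rw [hu0, map_zero, sub_zero, zero_add, sub_eq_zero] at hp'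
      have e1 := av2
      rw [hp', av] at e1
      have h2' : (2 : 𝕜) • ρ b v = 0 := by rw [two_smul]; nth_rewrite 2 [e1]; exact add_neg_cancel _
      rw [← rho_inv_apply (ρ := ρ) b v, (smul_eq_zero.1 h2').resolve_left two_ne, map_zero]
    exact Prod.ext (Subtype.ext hu0) (Subtype.ext hv0)
  have h1 := (LinearMap.finrank_le_finrank_of_injective hF).trans S.rk
  rw [Module.finrank_prod] at h1
  have hV1 : Module.finrank 𝕜 V = 1 := by
    have : Module.finrank 𝕜 V ≠ 0 := fun h => hVne (Submodule.finrank_eq_zero.1 h)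
    omega
  obtain ⟨v, hv, hv0⟩ := (Submodule.ne_bot_iff _).1 hVne
  refine ⟨q₀, hq₀, q₁, hq₁, v, hv0, ((hV v).1 hv).1, ((hV v).1 hv).2, fun w h0 h1 => ?_⟩
  obtain ⟨t, ht⟩ := (finrank_eq_one_iff_of_nonzero' (⟨v, hv⟩ : V)
    (fun h => hv0 (congrArg Subtype.val h))).1 hV1 ⟨w, (hV w).2 ⟨h0, h1⟩⟩
  exact ⟨t, congrArg Subtype.val ht⟩

/-- A normal elementary abelian `r`-subgroup of `R` is `{1, z}` with `z = -1`, or `R` is as
claimed. -/
theorem Setup.elem_case (S : Setup ρ R b Q) {A : Subgroup H} [A.Normal] (hA : A ≠ ⊥) (hAR : A ≤ R)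
    {r : ℕ} (hr : r.Prime) (hab : ∀ a ∈ A, ∀ c ∈ A, a * c = c * a) (hexp : ∀ a ∈ A, a ^ r = 1) :
    Concl R ∨ (r = 2 ∧ ∃ z ∈ A, ρ z = -1 ∧ ∀ a ∈ A, a = 1 ∨ a = z) := by
  haveI : Fact (Nat.Prime 3) := ⟨Nat.prime_three⟩
  rcases prime_or_monomial S hA hAR hr hab hexp with hcyc | hM
  swap
  · exact Or.inl (monomial_concl S hAR hab hM)
  right
  obtain ⟨⟨a, ha⟩, ha1'⟩ := Subgroup.ne_bot_iff_exists_ne_one.1 hA
  have ha1 : a ≠ 1 := fun h => ha1' (Subtype.ext h)
  have hAz := hcyc a ha ha1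
  have hconjA : ∀ g : H, ∃ i : ℤ, g * a * g⁻¹ = a ^ i := fun g => by
    obtain ⟨i, hi⟩ := hAz (Subgroup.Normal.conj_mem inferInstance a ha g)
    exact ⟨i, hi.symm⟩
  have hR : ∀ x ∈ R, x * a = a * x := by
    let K : Subgroup H :=
      { carrier := {g | g * a * g⁻¹ = a}
        one_mem' := by simp
        mul_mem' := fun {g h} hg hh => by
          show g * h * a * (g * h)⁻¹ = a
          rw [mul_inv_rev, show g * h * a * (h⁻¹ * g⁻¹) = g * (h * a * h⁻¹) * g⁻¹ by group, hh, hg]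
        inv_mem' := fun {g} hg => by
          show g⁻¹ * a * g⁻¹⁻¹ = a
          conv_lhs => rw [← hg]
          group }
    have key : ∀ g h : H, g * h * g⁻¹ * h⁻¹ ∈ K := fun g h => by
      obtain ⟨i, hi⟩ := hconjA g
      obtain ⟨j, hj⟩ := hconjA h
      have hgi : g⁻¹ * a ^ i * g = a := by rw [← hi]; group
      have hhj : h⁻¹ * a ^ j * h = a := by rw [← hj]; group
      have e1 : (g * h) * a * (g * h)⁻¹ = (h * g) * a * (h * g)⁻¹ := by
        rw [show (g * h) * a * (g * h)⁻¹ = g * (h * a * h⁻¹) * g⁻¹ by group, hj,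
          show (h * g) * a * (h * g)⁻¹ = h * (g * a * g⁻¹) * h⁻¹ by group, hi,
          ← conj_zpow, hi, ← conj_zpow, hj, ← zpow_mul, ← zpow_mul, mul_comm]
      show g * h * g⁻¹ * h⁻¹ * a * (g * h * g⁻¹ * h⁻¹)⁻¹ = a
      calc _ = (g * h) * ((h * g)⁻¹ * a * (h * g)) * (g * h)⁻¹ := by group
        _ = (h * g) * ((h * g)⁻¹ * a * (h * g)) * (h * g)⁻¹ := by
            obtain ⟨m, hm⟩ := hAz (show (h * g)⁻¹ * a * (h * g) ∈ A by
              simpa using Subgroup.Normal.conj_mem (inferInstance : A.Normal) a ha (h * g)⁻¹)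
            have hm' : (h * g)⁻¹ * a * (h * g) = a ^ m := hm.symm
            rw [hm', ← conj_zpow, ← conj_zpow, e1]
        _ = a := by group
    intro x hx
    rw [← S.comm] at hx
    have hle : ⁅R, Subgroup.zpowers b⁆ ≤ K := Subgroup.commutator_le.2 fun g _ h _ => by
      rw [commutatorElement_def]; exact key g h
    calc x * a = x * a * x⁻¹ * x := by group
      _ = a * x := by rw [show x * a * x⁻¹ = a from hle hx]
  rcases hr.eq_two_or_odd' with rfl | hodd
  · refine ⟨rfl, a, ha, ?_, fun c hc => ?_⟩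
    · refine LinearMap.ext fun w => ?_
      have ha2 : a * a = 1 := by rw [← pow_two]; exact hexp a ha
      have hm : w + ρ a w ∈ fixSp ρ A := fun c hc => by
        obtain ⟨i, rfl⟩ := hAz hc
        show ρ (a ^ i) _ = _
        rcases Int.even_or_odd i with ⟨m, rfl⟩ | ⟨m, rfl⟩
        · rw [show m + m = (2 : ℤ) * m by ring, zpow_mul, show a ^ (2 : ℤ) = 1 by rw [zpow_two, ha2],
            one_zpow, map_one]; rfl
        · rw [zpow_add, zpow_mul, show a ^ (2 : ℤ) = 1 by rw [zpow_two, ha2], one_zpow, one_mul, zpow_one,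
            map_add, ← rho_mul_apply, ha2, map_one, Module.End.one_apply, add_comm]
      rw [S.fixSp_normal hA, Submodule.mem_bot] at hm
      simpa using eq_neg_of_add_eq_zero_right hm
    · obtain ⟨i, rfl⟩ := hAz hc
      have ha2 : a ^ (2 : ℤ) = 1 := by rw [zpow_ofNat]; exact hexp a ha
      show a ^ i = 1 ∨ a ^ i = a
      rcases Int.even_or_odd i with ⟨m, rfl⟩ | ⟨m, rfl⟩
      · left; rw [show m + m = (2 : ℤ) * m by ring, zpow_mul, ha2, one_zpow]
      · right; rw [zpow_add, zpow_mul, ha2, one_zpow, one_mul, zpow_one]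
  · exfalso
    obtain ⟨q₀, hq₀, q₁, hq₁, v, hv0, hv1, hv2, hline⟩ := S.exists_line
    obtain ⟨t, ht⟩ := hline (ρ a v)
      (by rw [← rho_mul_apply, hR q₀ (S.qR hq₀), rho_mul_apply, hv1])
      (by rw [← rho_mul_apply, hR q₁ (S.qR hq₁), rho_mul_apply, hv2, map_neg])
    have ht0 : t ≠ 0 := fun h => hv0 (by
      rw [h, zero_smul] at ht
      rw [← rho_inv_apply (ρ := ρ) a v, ← ht, map_zero])
    have hpow : ∀ n : ℕ, ρ (a ^ n) v = t ^ n • v := by
      intro n
      induction n with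
      | zero => simp
      | succ n ih => rw [pow_succ', rho_mul_apply, ih, map_smul, ← ht, smul_smul, pow_succ]
    have htr : t = 1 := by
      rcases zmod_three_sign t ht0 with h | h
      · exact h
      · exfalso
        have := hpow r
        rw [hexp a ha, map_one, h, hodd.neg_one_pow, neg_smul, one_smul] at this
        have h2 : (2 : 𝕜) • v = 0 := by
          rw [two_smul]; nth_rewrite 2 [show v = -v from this]; exact add_neg_cancel _
        exact hv0 ((smul_eq_zero.1 h2).resolve_left two_ne)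
    have hfix : v ∈ fixSp ρ A := fun c hc => by
      obtain ⟨i, rfl⟩ := hAz hc
      obtain ⟨n, hn⟩ := (isOfFinOrder_of_finite a).mem_powers_iff_mem_zpowers.2
        ⟨i, rfl⟩
      show ρ (a ^ i) v = v
      rw [← show a ^ n = a ^ i from hn, hpow, htr, one_pow, one_smul]
    rw [S.fixSp_normal hA, Submodule.mem_bot] at hfix
    exact hv0 hfix

/-- No normal cyclic subgroup of order four. -/
theorem Setup.no_four (S : Setup ρ R b Q) {a : H} (ha : ρ a * ρ a = -1) (hb : b * a = a * b) : False := by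
  haveI : Fact (Nat.Prime 3) := ⟨Nat.prime_three⟩
  haveI : Module.Finite 𝕜 W := finite_end
  set N := ρ b - 1 with hN
  have hab : ρ a * N = N * ρ a := by
    rw [hN, mul_sub, sub_mul, mul_one, one_mul, ← map_mul, ← map_mul, hb]
  set I := LinearMap.range N
  set J := I.map N
  have hNN : ∀ w, N (N (N w)) = 0 := by
    intro w
    have hc : N ^ 3 = 0 := by
      have e : N ^ 3 = ρ b ^ 3 - 1 - (3 : 𝕜) • (ρ b * ρ b - ρ b) := by
        rw [hN, show (3 : 𝕜) = 1 + 1 + 1 by norm_num, add_smul, add_smul, one_smul]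
        simp only [pow_succ, pow_zero, one_mul, mul_sub, sub_mul, mul_one]
        abel
      rw [e, show (3 : 𝕜) = 0 from rfl, zero_smul, sub_zero, ← map_pow, S.b3, map_one, sub_self]
    exact LinearMap.congr_fun hc w
  have hJne : J ≠ ⊥ := by
    obtain ⟨w, hw⟩ : ∃ w, N (N w) ≠ 0 := by
      by_contra h
      push Not at h
      exact S.sq (LinearMap.ext h)
    exact (Submodule.ne_bot_iff _).2 ⟨_, Submodule.mem_map_of_mem (LinearMap.mem_range_self N w), hw⟩
  have hJI : J ≤ I := by rintro _ ⟨x, -, rfl⟩; exact LinearMap.mem_range_self _ _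
  have hJlt : J ≠ I := by
    intro h
    apply hJne
    rw [Submodule.eq_bot_iff]
    intro x hx
    rw [h] at hx
    have hx2 : x ∈ J := h ▸ hx
    obtain ⟨y, hy, rfl⟩ := hx2
    have hy2 : y ∈ J := h ▸ hy
    obtain ⟨y', hy', rfl⟩ := hy2
    obtain ⟨w, rfl⟩ := hy'
    exact hNN w
  have h1 : Module.finrank 𝕜 J < Module.finrank 𝕜 I :=
    Submodule.finrank_lt_finrank_of_lt (lt_of_le_of_ne hJI hJlt)
  have h2 : Module.finrank 𝕜 I ≤ 2 := S.rk
  have h3 : Module.finrank 𝕜 J ≠ 0 := fun h => hJne (Submodule.finrank_eq_zero.1 h)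
  obtain ⟨v, hv, hv0⟩ := (Submodule.ne_bot_iff _).1 hJne
  have hav : ρ a v ∈ J := by
    obtain ⟨x, ⟨w, rfl⟩, rfl⟩ := hv
    refine ⟨N (ρ a w), LinearMap.mem_range_self _ _, ?_⟩
    have e : ∀ u, N (ρ a u) = ρ a (N u) := fun u => (LinearMap.congr_fun hab u).symm
    rw [e, e]
  have hJ1 : Module.finrank 𝕜 J = 1 :=
    le_antisymm (Nat.le_of_lt_succ (lt_of_lt_of_le h1 h2)) (Nat.one_le_iff_ne_zero.2 h3)
  obtain ⟨t, ht⟩ := (finrank_eq_one_iff_of_nonzero' (⟨v, hv⟩ : J)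
    (fun h => hv0 (congrArg Subtype.val h))).1 hJ1 ⟨ρ a v, hav⟩
  have ht' : t • v = ρ a v := congrArg Subtype.val ht
  have := LinearMap.congr_fun ha v
  rw [Module.End.mul_apply, ← ht', map_smul, ← ht', smul_smul, LinearMap.neg_apply,
    Module.End.one_apply, ← neg_one_smul 𝕜 v] at this
  exact zmod_three_no_sqrt t (smul_left_injective 𝕜 hv0 this)

/-- An abelian normal `2`-subgroup of `R` lies in `{1, z}`. -/
theorem Setup.two_abelian (S : Setup ρ R b Q) (hC : ¬ Concl R) {N : Subgroup H} [N.Normal] (hNR : N ≤ R)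
    (hN2 : IsPGroup 2 N) (hab : ∀ a ∈ N, ∀ c ∈ N, a * c = c * a) :
    ∀ x ∈ N, x = 1 ∨ ρ x = -1 := by
  intro x hx
  by_cases hx1 : x = 1
  · exact Or.inl hx1
  let Ω : Subgroup H :=
    { carrier := {y | y ∈ N ∧ y * y = 1}
      one_mem' := ⟨N.one_mem, one_mul 1⟩
      mul_mem' := fun {u v} hu hv => ⟨N.mul_mem hu.1 hv.1, by
        rw [mul_assoc, ← mul_assoc v, hab v hv.1 u hu.1, mul_assoc u v v, hv.2, mul_one, hu.2]⟩
      inv_mem' := fun {u} hu => ⟨N.inv_mem hu.1, by rw [← mul_inv_rev, hu.2, inv_one]⟩ }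
  haveI : Ω.Normal := ⟨fun y hy g => ⟨Subgroup.Normal.conj_mem inferInstance y hy.1 g, by
    rw [show g * y * g⁻¹ * (g * y * g⁻¹) = g * (y * y) * g⁻¹ by group, hy.2, mul_one, mul_inv_cancel]⟩⟩
  obtain ⟨k, hk⟩ : ∃ k, x ^ 2 ^ k = 1 := by
    obtain ⟨k, hk⟩ := hN2 ⟨x, hx⟩
    exact ⟨k, congrArg Subtype.val hk⟩
  have hΩne : Ω ≠ ⊥ := by
    intro h
    refine hx1 ?_
    clear hx1
    induction k generalizing x with
    | zero => simpa using hk
    | succ k ih =>
      rw [pow_succ', pow_mul] at hk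
      have hsq : x ^ 2 = 1 := ih _ (pow_mem hx 2) hk
      exact Subgroup.mem_bot.1 (h ▸ (⟨hx, by rw [← pow_two]; exact hsq⟩ : x ∈ Ω))
  obtain ⟨-, z, hz, hzm, hΩ⟩ := (S.elem_case hΩne (fun y hy => hNR hy.1) Nat.prime_two
    (fun u hu v hv => hab u hu.1 v hv.1) (fun u hu => by rw [pow_two]; exact hu.2)).resolve_left hC
  have hz1 : z ≠ 1 := fun h => by
    apply hΩne
    rw [Subgroup.eq_bot_iff_forall]
    intro y hy
    rcases hΩ y hy with e | e
    · exact e
    · rw [e, h]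
  by_contra hcon
  push Not at hcon
  -- an element of order four
  have key : ∀ (k : ℕ) (x : H), x ∈ N → x ^ 2 ^ k = 1 → x * x ≠ 1 → ∃ a ∈ N, a * a = z := by
    intro k
    induction k with
    | zero => intro x _ h0 hne; exact absurd (by rw [pow_zero, pow_one] at h0; rw [h0, mul_one]) hne
    | succ k ih =>
      intro x hx hk hne
      by_cases h4 : (x * x) * (x * x) = 1
      · rcases hΩ _ (show x * x ∈ Ω from ⟨N.mul_mem hx hx, h4⟩) with h | h
        · exact absurd h hne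
        · exact ⟨x, hx, h⟩
      · refine ih _ (N.mul_mem hx hx) ?_ h4
        rw [← pow_two, ← pow_mul, ← pow_succ']
        exact hk
  obtain ⟨a, haN, haz⟩ := key k x hx hk (fun h => by
    rcases hΩ x ⟨hx, h⟩ with e | e
    · exact hcon.1 e
    · exact hcon.2 (e ▸ hzm))
  have hzb : b * z * b⁻¹ = z := by
    rcases hΩ _ (Subgroup.Normal.conj_mem (inferInstance : Ω.Normal) z hz b) with h | h
    · exact absurd (by simpa using h) hz1
    · exact h
  have hzz : z * z = 1 := hz.2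
  have hza : z * a = a⁻¹ := eq_inv_of_mul_eq_one_left (by rw [mul_assoc, haz, hzz])
  set c := b * a * b⁻¹
  have hcN : c ∈ N := Subgroup.Normal.conj_mem inferInstance a haN b
  have hcc : c * c = z := by
    show b * a * b⁻¹ * (b * a * b⁻¹) = z
    rw [show b * a * b⁻¹ * (b * a * b⁻¹) = b * (a * a) * b⁻¹ by group, haz, hzb]
  have hmem : c * a⁻¹ ∈ Ω := ⟨N.mul_mem hcN (N.inv_mem haN), by
    rw [show c * a⁻¹ * (c * a⁻¹) = c * (a⁻¹ * c) * a⁻¹ by group, hab a⁻¹ (N.inv_mem haN) c hcN,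
      show c * (c * a⁻¹) * a⁻¹ = (c * c) * (a * a)⁻¹ by group, hcc, haz, mul_inv_cancel]⟩
  have hba : b * a * b⁻¹ = a := by
    rcases hΩ _ hmem with h | h
    · exact mul_inv_eq_one.1 h
    · exfalso
      have hci : b * a * b⁻¹ = a⁻¹ := by
        show c = a⁻¹
        calc c = c * a⁻¹ * a := by group
          _ = z * a := by rw [h]
          _ = a⁻¹ := hza
      have h3 : a = a⁻¹ := by
        calc a = b ^ 3 * a * (b ^ 3)⁻¹ := by rw [S.b3]; simp
          _ = b * (b * (b * a * b⁻¹) * b⁻¹) * b⁻¹ := by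
            simp only [pow_succ, pow_zero, one_mul, mul_inv_rev, mul_assoc]
          _ = a⁻¹ := by
            rw [hci, show b * a⁻¹ * b⁻¹ = (b * a * b⁻¹)⁻¹ by group, hci, inv_inv, hci]
      exact hz1 (by rw [← haz]; nth_rewrite 2 [h3]; exact mul_inv_cancel a)
  refine S.no_four (a := a) (by rw [← map_mul, haz, hzm]) ?_
  calc b * a = b * a * b⁻¹ * b := by group
    _ = a * b := by rw [hba]


end Cfsg.Agent.Lib.JordanThree
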