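import Cfsg.Agent.Lib.JordanThree.Core

/-!
# The symplectic case and the final statement
-/

set_option autoImplicit false
set_option linter.unusedSectionVars false
set_option synthInstance.maxSize 4096
set_option synthInstance.maxHeartbeats 400000
set_option maxRecDepth 8000

open scoped commutatorElement

namespace Cfsg.Agent.Lib.JordanThree

variable {H : Type*} [Group H] [Finite H] {W : Type*} [AddCommGroup W] [Module (ZMod 3) W]
  [Finite W] {ρ : H →* Module.End (ZMod 3) W} {R Q : Subgroup H} {b : H}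

local notation "𝕜" => ZMod 3

/-- The largest normal `2`-subgroup of `R`. -/
def twoPart (R : Subgroup H) : Subgroup H := (Cfsg.pCore 2 R).map R.subtype

theorem twoPart_normal (S : Setup ρ R b Q) : (twoPart R).Normal := by
  haveI := S.normal
  haveI : (Cfsg.pCore 2 R).Characteristic := Cores.pCore_characteristic 2 R
  exact ConjAct.normal_of_characteristic_of_normal

theorem twoPart_le : twoPart R ≤ R := Subgroup.map_subtype_le _

theorem twoPart_isPGroup : IsPGroup 2 (twoPart R) := (Cores.pCore_isPGroup 2 R).map _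

theorem le_twoPart (S : Setup ρ R b Q) {N : Subgroup H} [N.Normal] (hNR : N ≤ R) (h : IsPGroup 2 N) :
    N ≤ twoPart R := by
  intro x hx
  refine ⟨⟨x, hNR hx⟩, Cores.le_pCore (N := N.subgroupOf R) inferInstance ?_ hx, rfl⟩
  exact h.of_equiv (Subgroup.subgroupOfEquivOfLe hNR).symm

/-- `C_R(P) ≤ P`. -/
theorem centralizer_twoPart (S : Setup ρ R b Q) (hC : ¬ Concl R) {x : H} (hx : x ∈ R)
    (h : ∀ y ∈ twoPart R, y * x = x * y) : x ∈ twoPart R := by
  haveI := S.normal
  have hodd : ∀ r : ℕ, r.Prime → r ≠ 2 → Cfsg.pCore r R = ⊥ := by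
    intro r hr hr2
    haveI : Fact r.Prime := ⟨hr⟩
    by_contra hne
    let M := (Cfsg.pCore r R).map R.subtype
    haveI : (Cfsg.pCore r R).Characteristic := Cores.pCore_characteristic r R
    haveI hMn : M.Normal := ConjAct.normal_of_characteristic_of_normal
    have hMp : IsPGroup r M := (Cores.pCore_isPGroup r R).map _
    haveI : Nontrivial M := (Subgroup.nontrivial_iff_ne_bot M).2 (fun h => hne
      ((Subgroup.map_eq_bot_iff_of_injective _ R.subtype_injective).1 h))
    let Ω : Subgroup H :=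
      { carrier := {y | y ∈ M ∧ (∀ m ∈ M, m * y = y * m) ∧ y ^ r = 1}
        one_mem' := ⟨M.one_mem, fun m _ => by simp, one_pow r⟩
        mul_mem' := fun {u v} hu hv => ⟨M.mul_mem hu.1 hv.1, fun m hm => by
          rw [← mul_assoc, hu.2.1 m hm, mul_assoc, hv.2.1 m hm, ← mul_assoc], by
          rw [Commute.mul_pow (hv.2.1 u hu.1), hu.2.2, hv.2.2, one_mul]⟩
        inv_mem' := fun {u} hu => ⟨M.inv_mem hu.1, fun m hm => by
          have := hu.2.1 m hm
          calc m * u⁻¹ = u⁻¹ * (u * m) * u⁻¹ := by group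
            _ = u⁻¹ * (m * u) * u⁻¹ := by rw [this]
            _ = u⁻¹ * m := by group, by rw [inv_pow, hu.2.2, inv_one]⟩ }
    haveI : Ω.Normal := ⟨fun y hy g => ⟨Subgroup.Normal.conj_mem inferInstance y hy.1 g, fun m hm => by
        have := hy.2.1 (g⁻¹ * m * g) (by simpa using hMn.conj_mem m hm g⁻¹)
        calc m * (g * y * g⁻¹) = g * ((g⁻¹ * m * g) * y) * g⁻¹ := by group
          _ = g * (y * (g⁻¹ * m * g)) * g⁻¹ := by rw [this]
          _ = _ := by group, by rw [conj_pow, hy.2.2, mul_one, mul_inv_cancel]⟩⟩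
    have hΩ : Ω ≠ ⊥ := by
      haveI := hMp.center_nontrivial
      obtain ⟨k, hk⟩ := IsPGroup.iff_card.1 (hMp.to_subgroup (Subgroup.center M))
      have hk0 : k ≠ 0 := fun h0 => by
        have := Finite.one_lt_card_iff_nontrivial.2 (inferInstance : Nontrivial (Subgroup.center M))
        rw [hk, h0, pow_zero] at this
        omega
      obtain ⟨c, hc⟩ := exists_prime_orderOf_dvd_card' (G := Subgroup.center M) r (hk ▸ dvd_pow_self r hk0)
      intro h0
      have hmem : (((c : M) : H)) ∈ Ω := ⟨(c : M).2, fun m hm =>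
        congrArg Subtype.val (Subgroup.mem_center_iff.1 c.2 ⟨m, hm⟩), by
          rw [← SubgroupClass.coe_pow, ← SubgroupClass.coe_pow, ← hc, pow_orderOf_eq_one]; rfl⟩
      rw [h0, Subgroup.mem_bot] at hmem
      have : c = 1 := Subtype.ext (Subtype.ext hmem)
      rw [this, orderOf_one] at hc
      exact hr.ne_one hc.symm
    exact hr2 ((S.elem_case hΩ (fun y hy => Subgroup.map_subtype_le _ hy.1) hr
      (fun u hu v hv => (hv.2.1 u hu.1)) (fun u hu => hu.2.2)).resolve_left hC).1
  have hF : Cfsg.fittingSubgroup R ≤ Cfsg.pCore 2 R := by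
    refine Cores.fittingSubgroup_le_of_pCore_le fun r hr => ?_
    rcases eq_or_ne r 2 with rfl | hr2
    · exact le_rfl
    · rw [hodd r hr hr2]; exact bot_le
  haveI := S.solv
  have hx' : (⟨x, hx⟩ : R) ∈ Subgroup.centralizer (Cfsg.fittingSubgroup R : Set R) :=
    Subgroup.mem_centralizer_iff.2 fun y hy => Subtype.ext (h _ ⟨y, hF hy, rfl⟩)
  exact ⟨_, hF (Cores.centralizer_fittingSubgroup_le S.solv hx'), rfl⟩

/-- The structure of `P = O₂(R)`. -/
structure Symp (ρ : H →* Module.End (ZMod 3) W) (R : Subgroup H) (z : H) : Prop where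
  zP : z ∈ twoPart R
  zneg : ρ z = -1
  zz : z * z = 1
  zcen : ∀ g, g * z = z * g
  cen : ∀ x ∈ twoPart R, (∀ y ∈ twoPart R, y * x = x * y) → x = 1 ∨ x = z
  comm : ∀ x ∈ twoPart R, ∀ y ∈ twoPart R, x * y * x⁻¹ * y⁻¹ = 1 ∨ x * y * x⁻¹ * y⁻¹ = z
  sqz : ∀ x ∈ twoPart R, x * x = 1 ∨ x * x = z
  nab : ∃ x ∈ twoPart R, ∃ y ∈ twoPart R, x * y ≠ y * x

theorem exists_symp (S : Setup ρ R b Q) (hC : ¬ Concl R) : ∃ z, Symp ρ R z := by
  haveI : Fact (Nat.Prime 2) := ⟨Nat.prime_two⟩
  haveI hPn := twoPart_normal S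
  set P := twoPart R
  let Z : Subgroup H := P ⊓ Subgroup.centralizer (P : Set H)
  haveI : Z.Normal := inferInstance
  have hZab : ∀ a ∈ Z, ∀ c ∈ Z, a * c = c * a := fun a ha c hc =>
    Subgroup.mem_centralizer_iff.1 hc.2 a ha.1
  have hZ := S.two_abelian hC (N := Z) (inf_le_left.trans twoPart_le)
    ((twoPart_isPGroup (R := R)).to_le inf_le_left) hZab
  have hPne : P ≠ ⊥ := by
    intro h0
    haveI : Nontrivial Q := Finite.one_lt_card_iff_nontrivial.1 (by rw [S.qcard]; norm_num)
    obtain ⟨⟨q, hq⟩, hq1⟩ := exists_ne (1 : Q)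
    have := centralizer_twoPart S hC (S.qR hq) (fun y hy => by
      change y ∈ P at hy
      rw [h0, Subgroup.mem_bot] at hy
      rw [hy, one_mul, mul_one])
    change q ∈ P at this
    rw [h0, Subgroup.mem_bot] at this
    exact hq1 (Subtype.ext this)
  haveI : Nontrivial P := (Subgroup.nontrivial_iff_ne_bot P).2 hPne
  haveI := (twoPart_isPGroup (R := R)).center_nontrivial
  obtain ⟨c, hc⟩ := exists_ne (1 : Subgroup.center P)
  have hcZ : ((c : P) : H) ∈ Z := ⟨(c : P).2, Subgroup.mem_centralizer_iff.2 fun y hy =>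
    congrArg Subtype.val (Subgroup.mem_center_iff.1 c.2 ⟨y, hy⟩)⟩
  have hz : ρ ((c : P) : H) = -1 := (hZ _ hcZ).resolve_left fun h => hc (Subtype.ext (Subtype.ext h))
  set z := ((c : P) : H)
  have huniq : ∀ x, ρ x = -1 → x = z := fun x hx => S.inj (hx.trans hz.symm)
  have hzz : z * z = 1 := S.inj (by rw [map_mul, hz, map_one]; simp)
  have hzc : ∀ g, g * z = z * g := fun g => S.inj (by rw [map_mul, map_mul, hz]; simp)
  have hzinv : z⁻¹ = z := inv_eq_of_mul_eq_one_right hzz
  -- the second centre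
  let Z2 : Subgroup H :=
    { carrier := {x | x ∈ P ∧ ∀ y ∈ P, x * y * x⁻¹ * y⁻¹ = 1 ∨ x * y * x⁻¹ * y⁻¹ = z}
      one_mem' := ⟨P.one_mem, fun y _ => Or.inl (by group)⟩
      mul_mem' := fun {u v} hu hv => ⟨P.mul_mem hu.1 hv.1, fun y hy => by
        have e : u * v * y * (u * v)⁻¹ * y⁻¹ = u * (v * y * v⁻¹ * y⁻¹) * u⁻¹ * (u * y * u⁻¹ * y⁻¹) := by
          group
        rcases hu.2 y hy with h1 | h1 <;> rcases hv.2 y hy with h2 | h2 <;> rw [e, h1, h2] <;>
          simp [hzc u, hzz]⟩
      inv_mem' := fun {u} hu => ⟨P.inv_mem hu.1, fun y hy => by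
        have e : u⁻¹ * y * u⁻¹⁻¹ * y⁻¹ = u⁻¹ * (u * y * u⁻¹ * y⁻¹)⁻¹ * u := by group
        rcases hu.2 y hy with h1 | h1 <;> rw [e, h1]
        · left; group
        · right; rw [hzinv, hzc u⁻¹, mul_assoc, inv_mul_cancel, mul_one]⟩ }
  haveI hZ2n : Z2.Normal := ⟨fun x hx g => ⟨hPn.conj_mem x hx.1 g, fun y hy => by
    have e : g * x * g⁻¹ * y * (g * x * g⁻¹)⁻¹ * y⁻¹ =
        g * (x * (g⁻¹ * y * g) * x⁻¹ * (g⁻¹ * y * g)⁻¹) * g⁻¹ := by group
    rcases hx.2 (g⁻¹ * y * g) (by simpa using hPn.conj_mem y hy g⁻¹) with h | h <;> rw [e, h]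
    · left; group
    · right; rw [hzc g, mul_assoc, mul_inv_cancel, mul_one]⟩⟩
  have hcenP : ∀ x ∈ P, (∀ y ∈ P, y * x = x * y) → x = 1 ∨ x = z := fun x hx hy =>
    (hZ x ⟨hx, Subgroup.mem_centralizer_iff.2 hy⟩).imp id (huniq x)
  -- `Z2` commutes with commutators
  have hcomm2 : ∀ x ∈ Z2, ∀ w ∈ ⁅P, P⁆, w * x = x * w := by
    intro x hx w hw
    have hle : ⁅P, P⁆ ≤ Subgroup.centralizer ({x} : Set H) := Subgroup.commutator_le.2 fun u hu v hv => by
      refine Subgroup.mem_centralizer_iff.2 fun x' hx' => ?_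
      rw [Set.mem_singleton_iff.1 hx']
      have key : ∀ y ∈ P, ∃ e : H, (∀ g, g * e = e * g) ∧ e * e = 1 ∧ x * y * x⁻¹ = e * y := by
        intro y hy
        rcases hx.2 y hy with h | h
        · exact ⟨1, by simp, by simp, by rw [one_mul]; exact mul_inv_eq_one.1 h⟩
        · exact ⟨z, hzc, hzz, by rw [← h]; group⟩
      obtain ⟨e, he, hee, h1⟩ := key u hu
      obtain ⟨f, hf, hff, h2⟩ := key v hv
      have heinv : e⁻¹ = e := inv_eq_of_mul_eq_one_right hee
      have hfinv : f⁻¹ = f := inv_eq_of_mul_eq_one_right hff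
      have h3 : x * ⁅u, v⁆ * x⁻¹ = ⁅u, v⁆ := by
        calc x * ⁅u, v⁆ * x⁻¹
            = (x * u * x⁻¹) * (x * v * x⁻¹) * (x * u * x⁻¹)⁻¹ * (x * v * x⁻¹)⁻¹ := by
              rw [commutatorElement_def]; group
          _ = e * u * (f * v) * (u⁻¹ * e) * (v⁻¹ * f) := by
              rw [h1, h2, mul_inv_rev, mul_inv_rev, heinv, hfinv]
          _ = (e * e) * (u * (f * v) * u⁻¹ * (v⁻¹ * f)) := by
              rw [he u⁻¹]; simp only [mul_assoc]
              rw [← mul_assoc (f : H) v, ← mul_assoc u (f * v), ← mul_assoc (u * (f * v)) e,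
                he (u * (f * v))]
              simp only [mul_assoc]
          _ = (f * f) * (u * v * u⁻¹ * v⁻¹) := by
              rw [hee, one_mul]; simp only [mul_assoc]
              rw [← mul_assoc u f, hf u, hf v⁻¹]; simp only [mul_assoc]
              rw [← mul_assoc u⁻¹ f, hf u⁻¹, mul_assoc, ← mul_assoc v f, hf v, mul_assoc, ← mul_assoc u f,
                hf u, mul_assoc]
          _ = ⁅u, v⁆ := by rw [hff, one_mul, commutatorElement_def]
      calc x * ⁅u, v⁆ = x * ⁅u, v⁆ * x⁻¹ * x := by group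
        _ = ⁅u, v⁆ * x := by rw [h3]
    exact (Subgroup.mem_centralizer_iff.1 (hle hw) x rfl).symm
  haveI : (⁅P, P⁆).Normal := Subgroup.commutator_normal P P
  have hN := S.two_abelian hC (N := Z2 ⊓ ⁅P, P⁆) (fun x hx => twoPart_le hx.1.1)
    ((twoPart_isPGroup (R := R)).to_le fun x hx => hx.1.1) (fun a ha c hc => (hcomm2 c hc.1 a ha.2))
  -- commutators lie in `{1, z}`
  haveI hnil : Group.IsNilpotent P := (twoPart_isPGroup (R := R)).isNilpotent
  have hder : ∀ x ∈ P, ∀ y ∈ P, x * y * x⁻¹ * y⁻¹ = 1 ∨ x * y * x⁻¹ * y⁻¹ = z := by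
    intro x hx y hy
    let π := QuotientGroup.mk' (Subgroup.center P)
    by_contra hcon
    push Not at hcon
    let M : Subgroup (P ⧸ Subgroup.center P) := ((⁅P, P⁆).subgroupOf P).map π
    haveI : M.Normal := Subgroup.Normal.map inferInstance π (QuotientGroup.mk'_surjective _)
    have hcen_mem : ∀ u : P, u ∈ Subgroup.center P → (u : H) = 1 ∨ (u : H) = z := fun u hu =>
      hcenP u u.2 fun v hv => congrArg Subtype.val (Subgroup.mem_center_iff.1 hu ⟨v, hv⟩)
    have hM : M ≠ ⊥ := by
      intro h0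
      have hm : π ⁅(⟨x, hx⟩ : P), ⟨y, hy⟩⁆ ∈ M :=
        Subgroup.mem_map_of_mem π (show ⁅x, y⁆ ∈ ⁅P, P⁆ from Subgroup.commutator_mem_commutator hx hy)
      rw [h0, Subgroup.mem_bot, QuotientGroup.mk'_apply, QuotientGroup.eq_one_iff] at hm
      rcases hcen_mem _ hm with h | h
      · exact hcon.1 h
      · exact hcon.2 h
    haveI : Group.IsNilpotent (P ⧸ Subgroup.center P) :=
      Group.nilpotent_of_surjective π (QuotientGroup.mk'_surjective _)
    obtain ⟨⟨m, hm⟩, hm1⟩ := Subgroup.ne_bot_iff_exists_ne_one.1 (Solvable.inf_center_ne_bot hM)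
    obtain ⟨⟨u, hu, rfl⟩, hmc⟩ := hm
    have huN : (u : H) ∈ Z2 ⊓ ⁅P, P⁆ := by
      refine ⟨⟨u.2, fun v hv => ?_⟩, hu⟩
      refine hcen_mem (u * ⟨v, hv⟩ * u⁻¹ * (⟨v, hv⟩ : P)⁻¹) ?_
      rw [← QuotientGroup.eq_one_iff]
      show π _ = 1
      rw [map_mul, map_mul, map_mul, map_inv, map_inv, ← Subgroup.mem_center_iff.1 hmc (π ⟨v, hv⟩)]
      group
    refine hm1 (Subtype.ext ?_)
    show π u = 1
    rw [QuotientGroup.mk'_apply, QuotientGroup.eq_one_iff, Subgroup.mem_center_iff]
    intro v
    rcases hN _ huN with h | h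
    · rw [show u = 1 from Subtype.ext h, mul_one, one_mul]
    · exact Subtype.ext (by
        show (v : H) * u = u * v
        rw [huniq _ h, hzc])
  have hsqz : ∀ x ∈ P, x * x = 1 ∨ x * x = z := by
    intro x hx
    refine hcenP _ (P.mul_mem hx hx) fun y hy => ?_
    obtain ⟨e, he, hee, h⟩ : ∃ e : H, (∀ g, g * e = e * g) ∧ e * e = 1 ∧ x * y * x⁻¹ = e * y := by
      rcases hder x hx y hy with h | h
      · exact ⟨1, by simp, by simp, by rw [one_mul]; exact mul_inv_eq_one.1 h⟩
      · exact ⟨z, hzc, hzz, by rw [← h]; group⟩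
    symm
    calc x * x * y = x * (x * y * x⁻¹) * x := by group
      _ = x * (e * y) * x := by rw [h]
      _ = e * (x * y * x⁻¹) * (x * x) := by
          rw [← mul_assoc x e y, he x]; group
      _ = (e * e) * y * (x * x) := by simp only [h, mul_assoc]
      _ = y * (x * x) := by rw [hee, one_mul]
  refine ⟨z, (c : P).2, hz, hzz, hzc, hcenP, hder, hsqz, ?_⟩
  -- `P` is not abelian
  by_contra hab
  push Not at hab
  have hPsmall : ∀ x ∈ P, x = 1 ∨ x = z := fun x hx => hcenP x hx fun y hy => hab y hy x hx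
  have hQP : ∀ q ∈ Q, q = 1 ∨ q = z := fun q hq => hPsmall q
    (centralizer_twoPart S hC (S.qR hq) fun y hy => by
      rcases hPsmall y hy with rfl | rfl
      · simp
      · exact (hzc q).symm)
  classical
  have hsub : (Q : Set H) ⊆ (({1, z} : Finset H) : Set H) := fun q hq => by
    rcases hQP q hq with h | h <;> simp [h]
  have := Set.ncard_le_ncard hsub (Set.toFinite _)
  rw [Set.ncard_coe_finset, ← Nat.card_coe_set_eq] at this
  have hQ4 := S.qcard
  simp only [SetLike.coe_sort_coe] at this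
  have h2 : ({1, z} : Finset H).card ≤ 2 := (Finset.card_insert_le _ _).trans (by simp)
  omega

theorem num_cases : ∀ n < 7, 3 ≤ n → ∀ d < 37, ∀ v < 37, ∀ j < 6, v = 2 ^ j → n * n = v * d →
    v ∣ 16 ∨ v = 4 ∨ v = 2 := by
  intro n hn hn3 d _ v _ j hj hv h
  subst hv
  interval_cases n <;> interval_cases j <;> norm_num at h ⊢ <;> omega

theorem fix_aux : ∀ V ∈ [1, 2, 4, 16], ∀ f ∈ [1, 2, 4, 8], ∀ r ∈ [5, 7, 11, 13],
    f < V → f % r = V % r → V = 16 ∧ ((r = 5 ∧ f = 1) ∨ (r = 7 ∧ f = 2)) := by
  decide +kernel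

theorem fix_cases (V : ℕ) (_ : V < 17) (f : ℕ) (_ : f < 17) (_ : 1 ≤ f) (hfV : f < V) (hfd : f ∣ V)
    (hV : V ∣ 16) (h8 : V ≠ 8) (r : ℕ) (hr17 : r < 17) (hr5 : 5 ≤ r) (hr : r.Prime)
    (h : f % r = V % r) : V = 16 ∧ ((r = 5 ∧ f = 1) ∨ (r = 7 ∧ f = 2)) := by
  have hpow : ∀ m, m ∣ 16 → m = 1 ∨ m = 2 ∨ m = 4 ∨ m = 8 ∨ m = 16 := fun m hm => by
    obtain ⟨i, hi, rfl⟩ := (Nat.dvd_prime_pow Nat.prime_two (m := 4)).1 hm
    interval_cases i <;> norm_num
  refine fix_aux V ?_ f ?_ r ?_ hfV h
  · rcases hpow V hV with e | e | e | e | e <;> simp [e] at h8 ⊢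
  · rcases hpow f (hfd.trans hV) with e | e | e | e | e <;> simp [e] at hfV ⊢
    omega
  · have := hr.eq_two_or_odd
    interval_cases r <;> simp_all (config := {decide := true})

theorem core (S : Setup ρ R b Q) : Concl R := by
  classical
  by_contra hC
  haveI : Fact (Nat.Prime 2) := ⟨Nat.prime_two⟩
  haveI : Fact (Nat.Prime 3) := ⟨Nat.prime_three⟩
  haveI : Module.Finite 𝕜 W := finite_end
  haveI hRn := S.normal
  obtain ⟨z, Y⟩ := exists_symp S hC
  haveI hPn := twoPart_normal S
  set P := twoPart R with hPdef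
  have hPR : P ≤ R := twoPart_le
  have hz1 : z ≠ 1 := fun h => by
    have h2 := Y.zneg
    rw [h, map_one] at h2
    refine S.sq (LinearMap.ext fun w => ?_)
    have hw : w = -w := LinearMap.congr_fun h2 w
    have h2w : (2 : 𝕜) • w = 0 := by rw [two_smul]; nth_rewrite 2 [hw]; exact add_neg_cancel _
    rw [(smul_eq_zero.1 h2w).resolve_left two_ne, map_zero, map_zero]
  have hzinv : z⁻¹ = z := inv_eq_of_mul_eq_one_right Y.zz
  -- the quotient `V = P / ⟨z⟩`
  let Zc : Subgroup P := Subgroup.center P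
  let V := P ⧸ Zc
  have hZc : ∀ u : P, u ∈ Zc ↔ (u : H) = 1 ∨ (u : H) = z := fun u => by
    refine ⟨fun hu => Y.cen u u.2 fun y hy =>
      congrArg Subtype.val (Subgroup.mem_center_iff.1 hu ⟨y, hy⟩), fun h => ?_⟩
    refine Subgroup.mem_center_iff.2 fun v => Subtype.ext ?_
    show (v : H) * u = u * v
    rcases h with h | h <;> rw [h]
    · simp
    · exact Y.zcen v
  have hZcard : Nat.card Zc = 2 := by
    have e : (Zc : Set P) = {1, ⟨z, Y.zP⟩} := by
      ext u
      simp only [SetLike.mem_coe, hZc, Set.mem_insert_iff, Set.mem_singleton_iff, Subtype.ext_iff,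
        OneMemClass.coe_one]
    rw [← SetLike.coe_sort_coe, Nat.card_coe_set_eq, e, Set.ncard_pair (fun h =>
      hz1 (congrArg Subtype.val h).symm)]
  have hVeq : ∀ u v : P, (QuotientGroup.mk u : V) = QuotientGroup.mk v ↔
      (v : H) = u ∨ (v : H) = u * z := by
    intro u v
    rw [QuotientGroup.eq, hZc]
    show (u : H)⁻¹ * v = 1 ∨ (u : H)⁻¹ * v = z ↔ _
    rw [inv_mul_eq_one, inv_mul_eq_iff_eq_mul]
    exact or_congr eq_comm Iff.rfl
  letI : Fintype P := Fintype.ofFinite _
  letI : Fintype V := Fintype.ofFinite _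
  have hcardP : Nat.card P = Nat.card V * 2 := by
    rw [Subgroup.card_eq_card_quotient_mul_card_subgroup Zc, hZcard]
  obtain ⟨jP, hjP⟩ := IsPGroup.iff_card.1 ((twoPart_isPGroup (R := R)).to_quotient Zc)
  -- the action on `V`
  let cj : H → MulAut P := fun g => MulAut.conjNormal g
  have hcjZ : ∀ g (u : P), u ∈ Zc → cj g u ∈ Zc := fun g u hu => by
    rw [hZc] at hu ⊢
    show g * (u : H) * g⁻¹ = 1 ∨ g * (u : H) * g⁻¹ = z
    rcases hu with h | h <;> rw [h]
    · left; simp
    · right; rw [Y.zcen g, mul_assoc, mul_inv_cancel, mul_one]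
  let act : H → V →* V := fun g => QuotientGroup.map Zc Zc (cj g).toMonoidHom (fun u hu => hcjZ g u hu)
  have hact : ∀ g (u : P), act g (QuotientGroup.mk u) = QuotientGroup.mk (cj g u) := fun g u => rfl
  have hact_mul : ∀ g h v, act (g * h) v = act g (act h v) := by
    intro g h v
    obtain ⟨u, rfl⟩ := QuotientGroup.mk_surjective v
    rw [hact, hact, hact]
    congr 1
    show MulAut.conjNormal (g * h) u = MulAut.conjNormal g (MulAut.conjNormal h u)
    rw [map_mul]; rfl
  have hact_one : ∀ v, act 1 v = v := by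
    intro v
    obtain ⟨u, rfl⟩ := QuotientGroup.mk_surjective v
    rw [hact]
    congr 1
    show MulAut.conjNormal (1 : H) u = u
    rw [map_one]; rfl
  let π : H →* Equiv.Perm V :=
    { toFun := fun g => ⟨act g, act g⁻¹, fun v => by rw [← hact_mul, inv_mul_cancel, hact_one],
        fun v => by rw [← hact_mul, mul_inv_cancel, hact_one]⟩
      map_one' := Equiv.ext hact_one
      map_mul' := fun g h => Equiv.ext fun v => hact_mul g h v }
  have hπ : ∀ g v, π g v = act g v := fun g v => rfl
  -- the kernel on `R` is `P`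
  have hkerP : ∀ g ∈ R, π g = 1 → g ∈ P := by
    intro g hg hg1
    let K : Subgroup H := R ⊓ π.ker
    haveI : K.Normal := inferInstance
    have hsq : ∀ k ∈ K, k * k ∈ P := by
      intro k hk
      refine centralizer_twoPart S hC (R.mul_mem hk.1 hk.1) fun y hy => ?_
      have h1 : (QuotientGroup.mk (cj k ⟨y, hy⟩) : V) = QuotientGroup.mk ⟨y, hy⟩ := by
        have := congrArg (fun e : Equiv.Perm V => e (QuotientGroup.mk ⟨y, hy⟩)) (MonoidHom.mem_ker.1 hk.2)
        simpa [hπ, hact] using this
      obtain ⟨e, hec, hee, h⟩ : ∃ e : H, (∀ g, g * e = e * g) ∧ e * e = 1 ∧ k * y * k⁻¹ = e * y := by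
        rcases (hVeq _ _).1 h1 with h | h
        · exact ⟨1, by simp, by simp, by rw [one_mul]; exact h.symm⟩
        · refine ⟨z, Y.zcen, Y.zz, ?_⟩
          have h' : y = k * y * k⁻¹ * z := h
          calc k * y * k⁻¹ = k * y * k⁻¹ * z * z := by rw [mul_assoc _ z z, Y.zz, mul_one]
            _ = z * y := by rw [← h', Y.zcen y]
      symm
      calc k * k * y = k * (k * y * k⁻¹) * k := by group
        _ = k * (e * y) * k := by rw [h]
        _ = e * (k * y * k⁻¹) * (k * k) := by rw [← mul_assoc k e y, hec k]; group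
        _ = (e * e) * y * (k * k) := by simp only [h, mul_assoc]
        _ = y * (k * k) := by rw [hee, one_mul]
    have hK2 : IsPGroup 2 K := fun k => by
      obtain ⟨j, hj⟩ := twoPart_isPGroup (R := R) ⟨(k : H) * k, hsq k k.2⟩
      refine ⟨j + 1, Subtype.ext ?_⟩
      have hj' := congrArg Subtype.val hj
      simp only [SubgroupClass.coe_pow, OneMemClass.coe_one] at hj' ⊢
      rw [pow_succ', pow_mul, pow_two]
      exact hj'
    exact le_twoPart S inf_le_left hK2 ⟨hg, hg1⟩
  -- `b` acts nontrivially on `V`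
  have hb_mem : b * b * b = 1 := by rw [← S.b3, pow_succ, pow_two]
  have hbV : π b ≠ 1 := by
    intro h
    have hcb : ∀ y ∈ P, b * y = y * b := by
      intro y hy
      have h1 : (QuotientGroup.mk (cj b ⟨y, hy⟩) : V) = QuotientGroup.mk ⟨y, hy⟩ := by
        have := congrArg (fun e : Equiv.Perm V => e (QuotientGroup.mk ⟨y, hy⟩)) h
        simpa [hπ, hact] using this
      rcases (hVeq _ _).1 h1 with e | e
      · have e' : y = b * y * b⁻¹ := e
        calc b * y = b * y * b⁻¹ * b := by group
          _ = y * b := by rw [← e']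
      · exfalso
        have e' : y = b * y * b⁻¹ * z := e
        have e1 : b * y * b⁻¹ = y * z := by
          calc b * y * b⁻¹ = b * y * b⁻¹ * z * z := by rw [mul_assoc _ z z, Y.zz, mul_one]
            _ = y * z := by rw [← e']
        have hbz : b * z * b⁻¹ = z := by rw [Y.zcen b, mul_assoc, mul_inv_cancel, mul_one]
        have e3 : y = y * z * z * z := by
          calc y = (b * b * b) * y * (b * b * b)⁻¹ := by rw [hb_mem]; simp
            _ = b * (b * (b * y * b⁻¹) * b⁻¹) * b⁻¹ := by simp only [mul_inv_rev, mul_assoc]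
            _ = _ := by
                rw [e1, show b * (y * z) * b⁻¹ = (b * y * b⁻¹) * (b * z * b⁻¹) by group, e1, hbz,
                  show b * (y * z * z) * b⁻¹ = (b * y * b⁻¹) * (b * z * b⁻¹) * (b * z * b⁻¹) by group,
                  e1, hbz]
        rw [mul_assoc (y * z), Y.zz, mul_one] at e3
        exact hz1 (mul_left_cancel (a := y) (by rw [mul_one]; exact e3.symm))
    let K : Subgroup H := Subgroup.centralizer (P : Set H)
    have hK : K = ⊤ := S.eq_top_of_mem (K := K)
      (Subgroup.mem_centralizer_iff.2 fun y hy => (hcb y hy).symm)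
    obtain ⟨x, hx, y, hy, hxy⟩ := Y.nab
    exact hxy (Subgroup.mem_centralizer_iff.1 (hK ▸ Subgroup.mem_top y : y ∈ K) x hx)
  -- fixed vectors
  let fixV : H → Subgroup V := fun g =>
    { carrier := {v | π g v = v}
      one_mem' := map_one (act g)
      mul_mem' := fun {u v} hu hv => by
        show act g (u * v) = u * v
        rw [map_mul]; exact congrArg₂ (· * ·) hu hv
      inv_mem' := fun {u} hu => by
        show act g u⁻¹ = u⁻¹
        rw [map_inv]; exact congrArg (·⁻¹) hu }
  have hVsq : ∀ v : V, v * v = 1 := by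
    intro v
    obtain ⟨u, rfl⟩ := QuotientGroup.mk_surjective v
    rw [← QuotientGroup.mk_mul, QuotientGroup.eq_one_iff, hZc]
    exact Y.sqz u u.2
  have hf4 : 4 * Nat.card (fixV b) ≤ Nat.card V := by
    have hne : fixV b ≠ ⊤ := fun h => hbV (Equiv.ext fun v => by
      have : v ∈ fixV b := h ▸ Subgroup.mem_top v
      exact this)
    have hidx : (fixV b).index ≠ 2 := by
      intro h2
      refine hne ((Subgroup.eq_top_iff' _).2 fun v => ?_)
      by_contra hv
      have hbv : act b v ∉ fixV b := fun h => hv (by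
        have h' : π b (π b v) = π b v := h
        exact (π b).injective h')
      have hw : v * act b v ∈ fixV b :=
        (Subgroup.mul_mem_iff_of_index_two h2).2 (iff_of_false hv hbv)
      set w := v * act b v with hwd
      have h1 : act b v = v * w := by
        rw [hwd, ← mul_assoc, hVsq, one_mul]
      have hw' : act b w = w := hw
      have h3 : act b (act b (act b v)) = v * w := by
        rw [h1, map_mul, h1, hw', map_mul, map_mul, h1, hw', mul_assoc v w w, hVsq, mul_one]
      rw [← hact_mul, ← hact_mul, ← mul_assoc, hb_mem, hact_one] at h3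
      exact hv (by
        show act b v = v
        calc act b v = v * v * act b v := by rw [hVsq, one_mul]
          _ = v := h3.symm)
    have h := (fixV b).index_mul_card
    have h4 : 4 ≤ (fixV b).index := by
      obtain ⟨i, hi⟩ := (Nat.dvd_prime_pow Nat.prime_two).1 (hjP ▸ Subgroup.index_dvd_card (fixV b))
      rcases i with _ | _ | i
      · exact absurd (Subgroup.index_eq_one.1 (by simpa using hi.2)) hne
      · exact absurd (by simpa using hi.2) hidx
      · rw [hi.2]
        calc 4 = 2 ^ 2 := rfl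
          _ ≤ 2 ^ (i + 1 + 1) := Nat.pow_le_pow_right (by norm_num) (by omega)
    calc 4 * Nat.card (fixV b) ≤ (fixV b).index * Nat.card (fixV b) := Nat.mul_le_mul_right _ h4
      _ = Nat.card V := h
  -- representatives of the `⟨b⟩`-orbits
  let e := Fintype.equivFin V
  let bp := π b
  have hbp3 : ∀ v, bp (bp (bp v)) = v := fun v => by
    show π b (π b (π b v)) = v
    rw [← Equiv.Perm.mul_apply, ← Equiv.Perm.mul_apply, ← map_mul, ← map_mul, hb_mem, map_one,
      Equiv.Perm.one_apply]
  let T₀ : Finset V := Finset.univ.filter fun v => e v ≤ e (bp v) ∧ e v ≤ e (bp (bp v))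
  have hcov : ∀ v, ∃ t ∈ T₀, ∃ n, n ≤ 2 ∧ v = (bp^[n]) t := by
    intro v
    have hmem : ∀ v, e v ≤ e (bp v) → e v ≤ e (bp (bp v)) → v ∈ T₀ := fun v h1 h2 =>
      Finset.mem_filter.2 ⟨Finset.mem_univ _, h1, h2⟩
    rcases le_total (e v) (e (bp v)) with ha | ha <;> rcases le_total (e v) (e (bp (bp v))) with hb' | hb' <;>
      rcases le_total (e (bp v)) (e (bp (bp v))) with hc | hc
    all_goals
      first
        | exact ⟨v, hmem v ha hb', 0, by omega, rfl⟩
        | exact ⟨bp v, hmem _ hc (by rw [hbp3]; exact ha), 2, le_rfl, (hbp3 v).symm⟩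
        | exact ⟨bp (bp v), hmem _ (by rw [hbp3]; exact hb') (by rw [hbp3]; exact hc), 1, by omega,
            (hbp3 v).symm⟩
        | exact ⟨bp v, hmem _ hc (by rw [hbp3]; exact le_trans hc hb'), 2, le_rfl, (hbp3 v).symm⟩
        | exact ⟨bp (bp v), hmem _ (by rw [hbp3]; exact le_trans hc ha) (by rw [hbp3]; exact hc), 1,
            by omega, (hbp3 v).symm⟩
        | exact ⟨v, hmem v ha (le_trans ha hc), 0, by omega, rfl⟩
        | exact ⟨v, hmem v (le_trans hb' hc) hb', 0, by omega, rfl⟩
  have hT3 : 3 * T₀.card ≤ Nat.card V + 2 * Nat.card (fixV b) := by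
    let F : Finset V := Finset.univ.filter fun v => bp v = v
    have hF : F.card = Nat.card (fixV b) := by
      rw [← SetLike.coe_sort_coe, Nat.card_coe_set_eq, ← Set.ncard_coe_finset]
      congr 1
      ext v
      simp only [F, Finset.coe_filter, Finset.mem_univ, true_and, Set.mem_ofPred_eq]
      rfl
    set T' := T₀ \ F with hT'
    have hd : ∀ t ∈ T', ∀ u ∈ T', bp u ≠ t := by
      intro t ht u hu he
      have ht' := (Finset.mem_filter.1 (Finset.mem_sdiff.1 ht).1).2
      have hu' := (Finset.mem_filter.1 (Finset.mem_sdiff.1 hu).1).2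
      rw [← he, hbp3] at ht'
      have heq : u = bp u := e.injective (le_antisymm hu'.1 ht'.2)
      exact (Finset.mem_sdiff.1 hu).2 (Finset.mem_filter.2 ⟨Finset.mem_univ _, heq.symm⟩)
    have h1 : Disjoint T' (T'.image bp) := Finset.disjoint_left.2 fun t ht h => by
      obtain ⟨u, hu, he⟩ := Finset.mem_image.1 h
      exact hd t ht u hu he
    have h2 : Disjoint (T' ∪ T'.image bp) (T'.image (bp ∘ bp)) := Finset.disjoint_left.2 fun t ht h => by
      obtain ⟨u, hu, he⟩ := Finset.mem_image.1 h
      rcases Finset.mem_union.1 ht with ht | ht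
      · exact hd u hu t ht (by rw [← he]; exact hbp3 u)
      · obtain ⟨w, hw, he'⟩ := Finset.mem_image.1 ht
        exact hd w hw u hu (bp.injective (he.trans he'.symm))
    have h3 : Disjoint ((T' ∪ T'.image bp) ∪ T'.image (bp ∘ bp)) F := Finset.disjoint_left.2 fun t ht hf => by
      have hf' : bp t = t := (Finset.mem_filter.1 hf).2
      rcases Finset.mem_union.1 ht with ht | ht
      · rcases Finset.mem_union.1 ht with ht | ht
        · exact (Finset.mem_sdiff.1 ht).2 hf
        · obtain ⟨u, hu, rfl⟩ := Finset.mem_image.1 ht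
          exact (Finset.mem_sdiff.1 hu).2 (Finset.mem_filter.2 ⟨Finset.mem_univ _, bp.injective hf'⟩)
      · obtain ⟨u, hu, rfl⟩ := Finset.mem_image.1 ht
        exact (Finset.mem_sdiff.1 hu).2
          (Finset.mem_filter.2 ⟨Finset.mem_univ _, bp.injective (bp.injective hf')⟩)
    have h4 := Finset.card_le_univ (((T' ∪ T'.image bp) ∪ T'.image (bp ∘ bp)) ∪ F)
    rw [Finset.card_union_of_disjoint h3, Finset.card_union_of_disjoint h2,
      Finset.card_union_of_disjoint h1, Finset.card_image_of_injective _ bp.injective,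
      Finset.card_image_of_injective _ (bp.injective.comp bp.injective)] at h4
    have h5 : T₀.card ≤ T'.card + F.card := by
      rw [hT']; exact Finset.card_le_card_sdiff_add_card
    rw [Nat.card_eq_fintype_card (α := V)]
    omega
  -- the representation of `P`
  let σ : P →* Module.End 𝕜 W := ρ.comp P.subtype
  let zP : P := ⟨z, Y.zP⟩
  haveI : Nontrivial (Module.End 𝕜 W) := ⟨⟨(ρ b - 1) * (ρ b - 1), 0, S.sq⟩⟩
  have hσz : σ zP = -1 := Y.zneg
  have hzzP : zP * zP = 1 := Subtype.ext Y.zz
  have hzcP : ∀ g : P, g * zP = zP * g := fun g => Subtype.ext (Y.zcen g)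
  have hcomP : ∀ x y : P, x⁻¹ * y * x = y ∨ x⁻¹ * y * x = y * zP := by
    intro x y
    have e : (x : H)⁻¹ * y * x = (x : H)⁻¹ * y * (x : H)⁻¹⁻¹ * (y : H)⁻¹ * y := by group
    rcases Y.comm (x : H)⁻¹ (P.inv_mem x.2) y y.2 with h | h
    · left; apply Subtype.ext; show (x : H)⁻¹ * y * x = y
      rw [e, h, one_mul]
    · right; apply Subtype.ext; show (x : H)⁻¹ * y * x = y * z
      rw [e, h, Y.zcen]
  have hcenP : ∀ y : P, (∀ x, x * y = y * x) → y = 1 ∨ y = zP := fun y hy => by
    rcases (hZc y).1 (Subgroup.mem_center_iff.2 hy) with h | h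
    · exact Or.inl (Subtype.ext h)
    · exact Or.inr (Subtype.ext h)
  have hk : (Fintype.card P : 𝕜) ≠ 0 := by
    rw [← Nat.card_eq_fintype_card, hcardP, hjP]
    push_cast
    exact mul_ne_zero (pow_ne_zero _ two_ne) two_ne
  let r : V → P := Quotient.out
  have hr1 : ∀ g : P, ∃ v, g = r v ∨ g = r v * zP := fun g => ⟨QuotientGroup.mk g, by
    rcases (hVeq (r (QuotientGroup.mk g)) g).1 (QuotientGroup.out_eq' _) with h | h
    · exact Or.inl (Subtype.ext h)
    · exact Or.inr (Subtype.ext h)⟩
  have hr2 : ∀ u v, u ≠ v → r u * (r v)⁻¹ ≠ 1 ∧ r u * (r v)⁻¹ ≠ zP := fun u v huv => by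
    have hkey : ¬ ((r u : H) = r v ∨ (r u : H) = r v * z) := fun h =>
      huv (by
        have := (hVeq (r v) (r u)).2 h
        rwa [QuotientGroup.out_eq', QuotientGroup.out_eq', eq_comm] at this)
    refine ⟨fun h => hkey (Or.inl (congrArg Subtype.val (mul_inv_eq_one.1 h))), fun h => hkey (Or.inr ?_)⟩
    rw [mul_inv_eq_iff_eq_mul] at h
    have h' : (r u : H) = z * r v := congrArg Subtype.val h
    rw [h', Y.zcen]
  have hdim := finrank_eq hσz hzcP hzzP hcomP hcenP two_ne hk r hr1 hr2
  have hcover : ∀ g : P, ∃ t ∈ T₀.image r, ∃ n : ℕ, g = ((cj b : P ≃* P)^[n]) t ∨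
      g = ((cj b : P ≃* P)^[n]) t * zP := by
    intro g
    obtain ⟨t, ht, n, -, hn⟩ := hcov (QuotientGroup.mk g)
    refine ⟨r t, Finset.mem_image_of_mem r ht, n, ?_⟩
    have hit : ∀ n : ℕ, (bp^[n]) t = QuotientGroup.mk (((cj b : P ≃* P)^[n]) (r t)) := by
      intro n
      induction n with
      | zero => exact (QuotientGroup.out_eq' t).symm
      | succ n ih =>
        rw [Function.iterate_succ_apply', Function.iterate_succ_apply', ih]
        exact hact b _
    rw [hit] at hn
    rcases (hVeq _ _).1 hn.symm with h | h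
    · exact Or.inl (Subtype.ext h)
    · exact Or.inr (Subtype.ext h)
  have hBu : IsUnit (ρ b) := ⟨⟨ρ b, ρ b⁻¹, by rw [← map_mul, mul_inv_cancel, map_one],
    by rw [← map_mul, inv_mul_cancel, map_one]⟩, rfl⟩
  have hup := finrank_commSub_le hσz hzcP hzzP hcomP hcenP two_ne hk (ρ b) hBu (cj b) (fun g => by
    show ρ b * ρ (g : H) = ρ (b * g * b⁻¹) * ρ b
    rw [← map_mul, ← map_mul, inv_mul_cancel_right]) (T₀.image r) hcover
  have hlow := finrank_commSub_ge (ρ b) S.rk
  rw [Module.finrank_linearMap] at hdim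
  set n := Module.finrank 𝕜 W
  set d := Module.finrank 𝕜 (commutant σ)
  have hn3 : 3 ≤ n := by
    by_contra hn
    push Not at hn
    have h1 : ∀ w : W, (ρ b - 1) ((ρ b - 1) ((ρ b - 1) w)) = 0 := fun w => by
      have hc : (ρ b - 1) ^ 3 = 0 := by
        have e : (ρ b - 1) ^ 3 = ρ b ^ 3 - 1 - (3 : 𝕜) • (ρ b * ρ b - ρ b) := by
          rw [show (3 : 𝕜) = 1 + 1 + 1 by norm_num, add_smul, add_smul, one_smul]
          simp only [pow_succ, pow_zero, one_mul, mul_sub, sub_mul, mul_one]
          abel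
        rw [e, show (3 : 𝕜) = 0 from rfl, zero_smul, sub_zero, ← map_pow, S.b3, map_one, sub_self]
      exact LinearMap.congr_fun hc w
    obtain ⟨w, hw⟩ : ∃ w, (ρ b - 1) ((ρ b - 1) w) ≠ 0 := by
      by_contra h
      push Not at h
      exact S.sq (LinearMap.ext h)
    have hli : LinearIndependent 𝕜 ![w, (ρ b - 1) w, (ρ b - 1) ((ρ b - 1) w)] := by
      rw [Fintype.linearIndependent_iff]
      intro g hg
      simp only [Fin.sum_univ_three, Matrix.cons_val_zero, Matrix.cons_val_one, Matrix.cons_val] at hg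
      have e1 := congrArg (fun x => (ρ b - 1) ((ρ b - 1) x)) hg
      simp only [map_add, map_smul, h1, map_zero, smul_zero, add_zero] at e1
      have g0 : g 0 = 0 := (smul_eq_zero.1 e1).resolve_right hw
      rw [g0, zero_smul, zero_add] at hg
      have e2 := congrArg (fun x => (ρ b - 1) x) hg
      simp only [map_add, map_smul, h1, map_zero, smul_zero, add_zero] at e2
      have g1 : g 1 = 0 := (smul_eq_zero.1 e2).resolve_right hw
      rw [g1, zero_smul, zero_add] at hg
      have g2 : g 2 = 0 := (smul_eq_zero.1 hg).resolve_right hw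
      intro i
      fin_cases i <;> assumption
    have := hli.fintype_card_le_finrank
    rw [Fintype.card_fin] at this
    omega
  have hTle : (T₀.image r).card * 2 ≤ Nat.card V := by
    have := Finset.card_image_le (s := T₀) (f := r)
    omega
  have hmain : 2 * ((n - 2) * (n - 2)) ≤ n * n := by
    have h1 : (n - 2) * (n - 2) ≤ (T₀.image r).card * d := hlow.trans hup
    calc 2 * ((n - 2) * (n - 2)) ≤ 2 * ((T₀.image r).card * d) := Nat.mul_le_mul_left 2 h1
      _ = (T₀.image r).card * 2 * d := by ring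
      _ ≤ Nat.card V * d := Nat.mul_le_mul_right d hTle
      _ = n * n := by rw [hdim, Nat.card_eq_fintype_card]
  have hn6 : n ≤ 6 := by
    by_contra h
    push Not at h
    obtain ⟨m, hm⟩ : ∃ m, n = m + 7 := ⟨n - 7, by omega⟩
    rw [hm, show m + 7 - 2 = m + 5 by omega] at hmain
    nlinarith
  have hd0 : 1 ≤ d := by
    by_contra h
    have hd : d = 0 := by omega
    rw [hd, mul_zero] at hdim
    nlinarith
  have hdimV : n * n = Nat.card V * d := by rw [hdim, Nat.card_eq_fintype_card]
  have hVle : Nat.card V ≤ 36 := by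
    have : Nat.card V * 1 ≤ Nat.card V * d := Nat.mul_le_mul_left _ hd0
    nlinarith
  have hd36 : d ≤ 36 := by
    have : 1 * d ≤ Nat.card V * d := Nat.mul_le_mul_right _ (Nat.card_pos)
    nlinarith
  have hj5 : jP < 6 := by
    by_contra h
    have := Nat.pow_le_pow_right (show 1 ≤ 2 by norm_num) (show 6 ≤ jP by omega)
    have hjP' : Nat.card V = 2 ^ jP := hjP
    omega
  have hV16 : Nat.card V ∣ 16 := by
    rcases num_cases n (by omega) hn3 d (by omega) (Nat.card V) (by omega) jP hj5 hjP hdimV with h | h | h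
    · exact h
    · rw [h]; norm_num
    · rw [h]; norm_num
  -- commuting with a given element
  let perp : P → Subgroup V := fun u =>
    { carrier := {v | ∀ w : P, QuotientGroup.mk w = v → (w : H) * u = u * w}
      one_mem' := fun w hw => by
        rcases (hVeq w 1).1 hw with h | h
        · have h' : (w : H) = 1 := by simpa using h.symm
          rw [h', one_mul, mul_one]
        · have h' : (w : H) = z := by
            have e : (1 : H) = w * z := by simpa using h
            rw [← hzinv]; exact eq_inv_of_mul_eq_one_left e.symm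
          rw [h', ← Y.zcen]
      mul_mem' := fun {a c} ha hc w hw => by
        obtain ⟨wa, rfl⟩ := QuotientGroup.mk_surjective a
        obtain ⟨wc, rfl⟩ := QuotientGroup.mk_surjective c
        rw [← QuotientGroup.mk_mul] at hw
        have h1 := ha wa rfl
        have h2 := hc wc rfl
        have h12 : ((wa : H) * wc) * u = u * (wa * wc) := by
          rw [mul_assoc, h2, ← mul_assoc, h1, mul_assoc]
        rcases (hVeq _ _).1 hw with h | h
        · have h' : (w : H) = wa * wc := h.symm
          rw [h']; exact h12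
        · have h' : (wa : H) * wc = w * z := h
          have h'' : (w : H) = wa * wc * z := by rw [h', mul_assoc, Y.zz, mul_one]
          rw [h'', mul_assoc, ← Y.zcen u, ← mul_assoc, h12, mul_assoc]
      inv_mem' := fun {a} ha w hw => by
        have := ha w (by rw [hw, inv_eq_of_mul_eq_one_right (hVsq a)])
        exact this }
  have hperp_mem : ∀ (u w : P), QuotientGroup.mk w ∈ perp u ↔ (w : H) * u = u * w := fun u w => by
    refine ⟨fun h => h w rfl, fun h w' hw' => ?_⟩
    rcases (hVeq _ _).1 hw' with e | e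
    · have e' : (w' : H) = w := e.symm
      rw [e']; exact h
    · have e' : (w : H) = w' * z := e
      have e'' : (w' : H) = w * z := by rw [e', mul_assoc, Y.zz, mul_one]
      rw [e'', mul_assoc, ← Y.zcen u, ← mul_assoc, h, mul_assoc]
  have hperp_idx : ∀ (u : P), (u : H) ≠ 1 → (u : H) ≠ z → (perp u).index = 2 := by
    intro u hu1 huz
    obtain ⟨a₀, ha₀⟩ : ∃ a : P, (a : H) * u ≠ u * a := by
      by_contra h
      push Not at h
      rcases Y.cen u u.2 (fun y hy => h ⟨y, hy⟩) with e | e
      · exact hu1 e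
      · exact huz e
    have hflip : ∀ w : P, (w : H) * u ≠ u * w → (w : H) * u = u * w * z := fun w hw => by
      have e : (w : H) * u = w * u * (w : H)⁻¹ * (u : H)⁻¹ * (u * w) := by group
      rcases Y.comm w w.2 u u.2 with h | h
      · rw [h, one_mul] at e; exact absurd e hw
      · rw [h] at e; rw [e, Y.zcen]
    refine Subgroup.index_eq_two_iff.2 ⟨QuotientGroup.mk a₀, fun c => ?_⟩
    obtain ⟨w, rfl⟩ := QuotientGroup.mk_surjective c
    rw [← QuotientGroup.mk_mul, hperp_mem, hperp_mem]
    by_cases hw : (w : H) * u = u * w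
    · refine Or.inr ⟨hw, fun h => ha₀ ?_⟩
      have h' : (w : H) * a₀ * u = u * (w * a₀) := h
      rw [mul_assoc, ← mul_assoc (u : H), ← hw, mul_assoc] at h'
      exact mul_left_cancel h'
    · refine Or.inl ⟨?_, hw⟩
      show (w : H) * a₀ * u = u * (w * a₀)
      calc (w : H) * a₀ * u = w * (a₀ * u) := mul_assoc _ _ _
        _ = w * u * (a₀ * z) := by rw [hflip a₀ ha₀]; simp only [mul_assoc]
        _ = u * w * z * (a₀ * z) := by rw [hflip w hw]
        _ = u * (w * a₀) * (z * z) := by
            rw [Y.zcen (a₀ : H), mul_assoc (u * (w : H)) z, ← mul_assoc z z, Y.zz, one_mul]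
            group
        _ = _ := by rw [Y.zz, mul_one]
  have hpar : Nat.card V ≠ 8 := by
    intro h8
    obtain ⟨x, hx, y, hy, hxy⟩ := Y.nab
    set X : P := ⟨x, hx⟩
    set Y' : P := ⟨y, hy⟩
    have hx1 : x ≠ 1 := fun e => hxy (by rw [e, one_mul, mul_one])
    have hxz : x ≠ z := fun e => hxy (by rw [e, Y.zcen])
    have hy1 : y ≠ 1 := fun e => hxy (by rw [e, one_mul, mul_one])
    have hyz : y ≠ z := fun e => hxy (by rw [e, Y.zcen])
    have i1 := hperp_idx X hx1 hxz
    have i2 := hperp_idx Y' hy1 hyz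
    set D := perp X ⊓ perp Y' with hD
    have hD4 : D.index ≤ 4 := by
      have := Subgroup.index_inf_le (H := perp X) (K := perp Y')
      rwa [i1, i2] at this
    have hDne : D ≠ ⊥ := fun h => by
      rw [h, Subgroup.index_bot, h8] at hD4
      omega
    obtain ⟨⟨d₀, hd₀⟩, hd1⟩ := Subgroup.ne_bot_iff_exists_ne_one.1 hDne
    obtain ⟨w, rfl⟩ := QuotientGroup.mk_surjective d₀
    have hw1 : (w : H) ≠ 1 ∧ (w : H) ≠ z := by
      refine ⟨fun e => hd1 (Subtype.ext ?_), fun e => hd1 (Subtype.ext ?_)⟩ <;>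
        exact (QuotientGroup.eq_one_iff w).2 ((hZc w).2 (by first | exact Or.inl e | exact Or.inr e))
    -- `P` is generated by `x`, `y`, `w`, `z`, all commuting with `w`
    let E : Subgroup V := Subgroup.closure {(QuotientGroup.mk X : V), QuotientGroup.mk Y', QuotientGroup.mk w}
    have hEle : E ≤ perp w := by
      rw [Subgroup.closure_le]
      rintro v (rfl | rfl | rfl) <;> rw [SetLike.mem_coe, hperp_mem]
      · exact ((hperp_mem X w).1 hd₀.1).symm
      · exact ((hperp_mem Y' w).1 hd₀.2).symm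
    have h8' := hperp_idx w hw1.1 hw1.2
    -- `E` is a proper overgroup of a group of order four not inside `perp x`
    have hE8 : 8 ≤ Nat.card E := by
      have hXE : (QuotientGroup.mk X : V) ∈ E := Subgroup.subset_closure (by simp)
      have hYE : (QuotientGroup.mk Y' : V) ∈ E := Subgroup.subset_closure (by simp)
      have hwE : (QuotientGroup.mk w : V) ∈ E := Subgroup.subset_closure (by simp)
      have hXn : (QuotientGroup.mk X : V) ∉ perp Y' := fun h => hxy ((hperp_mem Y' X).1 h)
      have hwY : (QuotientGroup.mk w : V) ∈ perp Y' := hd₀.2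
      have hYY : (QuotientGroup.mk Y' : V) ∈ perp Y' := (hperp_mem Y' Y').2 rfl
      have hwX : (QuotientGroup.mk w : V) ∈ perp X := hd₀.1
      have hYn : (QuotientGroup.mk Y' : V) ∉ perp X := fun h => hxy ((hperp_mem X Y').1 h).symm
      have hsub : E ⊓ perp Y' ≠ E := fun h => hXn ((inf_eq_left.1 h) hXE)
      have hsub2 : (E ⊓ perp Y') ⊓ perp X ≠ E ⊓ perp Y' := fun h =>
        hYn ((inf_eq_left.1 h) ⟨hYE, hYY⟩)
      have hne3 : (E ⊓ perp Y') ⊓ perp X ≠ ⊥ := fun h => by
        have : (QuotientGroup.mk w : V) ∈ (E ⊓ perp Y') ⊓ perp X := ⟨⟨hwE, hwY⟩, hwX⟩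
        rw [h, Subgroup.mem_bot] at this
        exact hd1 (Subtype.ext this)
      have two_mul : ∀ A B : Subgroup V, A ≤ B → A ≠ B → 2 * Nat.card A ≤ Nat.card B := by
        intro A B hle hne
        obtain ⟨m, hm⟩ := Subgroup.card_dvd_of_le hle
        rcases m with _ | _ | m
        · simp at hm
        · exact absurd (Subgroup.eq_of_le_of_card_ge hle (le_of_eq (hm.trans (mul_one _)))) hne
        · rw [hm, mul_comm]; exact Nat.mul_le_mul_left _ (by omega)
      have a1 := two_mul _ _ inf_le_left hsub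
      have a2 := two_mul _ _ inf_le_left hsub2
      have a3 : 2 ≤ Nat.card ((E ⊓ perp Y') ⊓ perp X : Subgroup V) := by
        by_contra hlt
        exact hne3 (Subgroup.card_eq_one.1 (le_antisymm (by omega) Nat.card_pos))
      omega
    have := Subgroup.card_le_of_le hEle
    have h9 := (perp w).index_mul_card
    rw [h8', h8] at h9
    omega
  -- every element of odd prime order in the image
  have horder : ∀ (g : H), g ∈ R → ∀ r : ℕ, r.Prime → 5 ≤ r → IsPGroup r (Subgroup.zpowers (π g)) →
      π g ≠ 1 → r = 5 ∧ Nat.card V = 16 ∧ Nat.card (fixV g) = 1 := by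
    intro g hg r hr hr5 hgp hg1
    haveI : Fact r.Prime := ⟨hr⟩
    have hfixset : ∀ (s : Set V), (∀ v ∈ s, π g v = v) →
        s ⊆ MulAction.fixedPoints (Subgroup.zpowers (π g)) V := by
      intro s hs v hv
      rw [MulAction.mem_fixedPoints]
      rintro ⟨x, hx⟩
      exact (Subgroup.zpowers_le (H := MulAction.stabilizer (Equiv.Perm V) v)).2 (hs v hv) hx
    have hfixeq : MulAction.fixedPoints (Subgroup.zpowers (π g)) V = (fixV g : Set V) :=
      Set.Subset.antisymm (fun v hv => (MulAction.mem_fixedPoints.1 hv) ⟨π g, Subgroup.mem_zpowers _⟩)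
        (hfixset _ fun v hv => hv)
    have hmod := hgp.card_modEq_card_fixedPoints V
    rw [hfixeq] at hmod
    have hflt : Nat.card (fixV g) < Nat.card V := by
      refine lt_of_le_of_ne (Subgroup.card_le_card_group _) fun h => hg1 ?_
      have htop := Subgroup.eq_top_of_card_eq _ h
      exact Equiv.ext fun v => (htop ▸ Subgroup.mem_top v : v ∈ fixV g)
    have hV16' : Nat.card V ≤ 16 := Nat.le_of_dvd (by norm_num) hV16
    have hr17 : r < 17 := by
      by_contra h
      have hm : Nat.card V % r = Nat.card (fixV g) % r := hmod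
      rw [Nat.mod_eq_of_lt (by omega), Nat.mod_eq_of_lt (by omega)] at hm
      omega
    obtain ⟨hV, h⟩ := fix_cases (Nat.card V) (by omega) (Nat.card (fixV g)) (by omega) Nat.card_pos hflt
      (Subgroup.card_subgroup_dvd_card _) hV16 hpar r hr17 hr5 hr hmod.symm
    rcases h with ⟨h5, hf⟩ | ⟨h7, hf⟩
    · exact ⟨h5, hV, hf⟩
    exfalso
    subst h7
    haveI : Nontrivial (fixV g) := Finite.one_lt_card_iff_nontrivial.1 (by rw [hf]; norm_num)
    obtain ⟨⟨v₀, hv₀⟩, hv1⟩ := exists_ne (1 : fixV g)
    obtain ⟨u, rfl⟩ := QuotientGroup.mk_surjective v₀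
    have hu : (u : H) ≠ 1 ∧ (u : H) ≠ z := by
      refine ⟨fun e => hv1 (Subtype.ext ?_), fun e => hv1 (Subtype.ext ?_)⟩ <;>
        exact (QuotientGroup.eq_one_iff u).2 ((hZc u).2 (by first | exact Or.inl e | exact Or.inr e))
    have h8 : Nat.card (perp u) = 8 := by
      have := (perp u).index_mul_card
      rw [hperp_idx u hu.1 hu.2, hV] at this
      omega
    -- `perp u` is invariant and contains both fixed vectors
    have hgu : g * (u : H) * g⁻¹ = u ∨ g * (u : H) * g⁻¹ = u * z := by
      have h1 : (QuotientGroup.mk (cj g u) : V) = QuotientGroup.mk u := hv₀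
      exact (hVeq u (cj g u)).1 h1.symm
    have hinv : ∀ v ∈ perp u, π g v ∈ perp u := by
      intro v hv
      obtain ⟨w, rfl⟩ := QuotientGroup.mk_surjective v
      rw [hπ, hact, hperp_mem]
      show g * (w : H) * g⁻¹ * u = u * (g * w * g⁻¹)
      have hwu := (hperp_mem u w).1 hv
      have hconj : (g * (w : H) * g⁻¹) * (g * u * g⁻¹) = (g * u * g⁻¹) * (g * w * g⁻¹) := by
        rw [show g * (w : H) * g⁻¹ * (g * u * g⁻¹) = g * (w * u) * g⁻¹ by group, hwu]
        group
      rcases hgu with e | e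
      · rwa [e] at hconj
      · rw [e, ← mul_assoc, mul_assoc (u : H) z, ← Y.zcen (g * (w : H) * g⁻¹), ← mul_assoc (u : H)] at hconj
        exact mul_right_cancel hconj
    let restr : Equiv.Perm (perp u) :=
      Equiv.subtypeEquiv (π g) (fun v => ⟨hinv v, fun h => by
        have hmaps : Set.MapsTo (π g) (perp u : Set V) (perp u) := fun x hx => hinv x hx
        obtain ⟨v', hv', he⟩ := ((Set.toFinite _).injOn_iff_bijOn_of_mapsTo hmaps).1
          (π g).injective.injOn |>.surjOn h
        rwa [← (π g).injective he]⟩)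
    have hsub : (fixV g : Set V) ⊆ (perp u : Set V) := by
      intro v hv
      have huu : (QuotientGroup.mk u : V) ∈ perp u := (hperp_mem u u).2 rfl
      have hpair : ({1, QuotientGroup.mk u} : Set V) = (fixV g : Set V) := by
        refine Set.eq_of_subset_of_ncard_le ?_ ?_ (Set.toFinite _)
        · rintro x (rfl | rfl)
          · exact (fixV g).one_mem
          · exact hv₀
        · rw [Set.ncard_pair (show (1 : V) ≠ QuotientGroup.mk u from fun e => hv1 (Subtype.ext e.symm))]
          exact le_of_eq ((Nat.card_coe_set_eq _).symm.trans hf)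
      rw [← hpair] at hv
      rcases hv with rfl | rfl
      · exact (perp u).one_mem
      · exact huu
    have hrp : IsPGroup 7 (Subgroup.zpowers restr) := by
      obtain ⟨k, hk⟩ := hgp ⟨π g, Subgroup.mem_zpowers _⟩
      have hk' : (π g) ^ 7 ^ k = 1 := congrArg Subtype.val hk
      have hpow : ∀ (m : ℕ) (v : perp u), ((restr ^ m) v : V) = (π g ^ m) (v : V) := by
        intro m
        induction m with
        | zero => intro v; rfl
        | succ m ih =>
          intro v
          rw [pow_succ', pow_succ', Equiv.Perm.mul_apply, Equiv.Perm.mul_apply, ← ih]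
          rfl
      have hrk : restr ^ 7 ^ k = 1 := Equiv.ext fun v => Subtype.ext (by rw [hpow, hk']; rfl)
      rintro ⟨x, ⟨m, rfl⟩⟩
      exact ⟨k, Subtype.ext (by
        show (restr ^ m) ^ 7 ^ k = 1
        rw [← zpow_natCast (restr ^ m), ← zpow_mul, mul_comm, zpow_mul, zpow_natCast, hrk, one_zpow])⟩
    have hmod2 := hrp.card_modEq_card_fixedPoints (perp u)
    have hfix2 : Nat.card (MulAction.fixedPoints (Subgroup.zpowers restr) (perp u)) = 2 := by
      rw [← hf]
      refine Nat.card_congr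
        { toFun := fun v => ⟨(v.1 : V), ?_⟩
          invFun := fun v => ⟨⟨v.1, hsub v.2⟩, ?_⟩
          left_inv := fun v => rfl
          right_inv := fun v => rfl }
      · exact congrArg Subtype.val ((MulAction.mem_fixedPoints.1 v.2) ⟨restr, Subgroup.mem_zpowers _⟩)
      · rw [MulAction.mem_fixedPoints]
        rintro ⟨x, hx⟩
        refine (Subgroup.zpowers_le (H := MulAction.stabilizer (Equiv.Perm (perp u))
          (⟨v.1, hsub v.2⟩ : perp u))).2 ?_ hx
        exact Subtype.ext v.2
    rw [hfix2, h8] at hmod2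
    exact absurd hmod2 (by decide)
  -- the image of `R` is trivial
  have hX : ∀ g ∈ R, π g = 1 := by
    by_contra hcon
    push Not at hcon
    obtain ⟨g₀, hg₀, hg₀1⟩ := hcon
    set X := R.map π with hX
    haveI : Group.IsSolvable X := by
      haveI := S.solv
      exact Group.isSolvable_of_surjective (π.subgroupMap_surjective R)
    haveI : Fact (Nat.Prime 5) := ⟨by norm_num⟩
    have hXb : ∀ x ∈ X, π b * x * (π b)⁻¹ ∈ X := by
      rintro _ ⟨g, hg, rfl⟩
      exact ⟨b * g * b⁻¹, hRn.conj_mem g hg b, by rw [map_mul, map_mul, map_inv]⟩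
    have hodd : ∀ r : ℕ, r.Prime → r ≠ 5 → Cfsg.pCore r X = ⊥ := by
      intro r hr hr5
      haveI : Fact r.Prime := ⟨hr⟩
      rw [Cores.pCore_eq_bot_iff]
      intro N hNn hNp
      rw [Subgroup.eq_bot_iff_forall]
      rintro ⟨x, g, hg, rfl⟩ hxN
      refine Subtype.ext ?_
      by_contra hne
      rcases Nat.lt_or_ge r 5 with hlt | hge
      · have hr23 : r = 2 ∨ r = 3 := by
          interval_cases r <;> simp_all (config := {decide := true})
        rcases hr23 with rfl | rfl
        · -- a normal `2`-subgroup of the image pulls back into `P`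
          let f := π.subgroupMap R
          let M := (N.comap f).map R.subtype
          haveI hchar : IsPGroup 2 (N.comap f) := by
            refine hNp.comap_of_ker_isPGroup f ?_
            intro k
            have hk1 : π ((k : R) : H) = 1 := congrArg Subtype.val (MonoidHom.mem_ker.1 k.2)
            obtain ⟨j, hj⟩ := twoPart_isPGroup (R := R) ⟨((k : R) : H), hkerP _ (k : R).2 hk1⟩
            refine ⟨j, Subtype.ext (Subtype.ext ?_)⟩
            have hj' := congrArg (fun t : twoPart R => (t : H)) hj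
            simpa using hj'
          have hle : N.comap f ≤ Cfsg.pCore 2 R := Cores.le_pCore inferInstance hchar
          have hgP : g ∈ P := ⟨⟨g, hg⟩, hle (show f ⟨g, hg⟩ ∈ N from hxN), rfl⟩
          refine hne ?_
          show π g = 1
          refine Equiv.ext fun v => ?_
          obtain ⟨u, rfl⟩ := QuotientGroup.mk_surjective v
          rw [hπ, hact, Equiv.Perm.one_apply]
          symm
          rw [hVeq]
          show g * (u : H) * g⁻¹ = u ∨ g * (u : H) * g⁻¹ = u * z
          rcases Y.comm g hgP u u.2 with e | e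
          · left; exact mul_inv_eq_one.1 e
          · right; rw [Y.zcen, ← e]; group
        · obtain ⟨k, hk⟩ := hNp ⟨_, hxN⟩
          have h1 : orderOf (π g) ∣ 3 ^ k := orderOf_dvd_of_pow_eq_one
            (congrArg (fun y : X => (y : Equiv.Perm V)) (congrArg Subtype.val hk))
          have h2 : orderOf (π g) ∣ Nat.card R :=
            (orderOf_map_dvd π g).trans (Subgroup.orderOf_dvd_natCard _ hg)
          exact hne (orderOf_eq_one_iff.1 (Nat.eq_one_of_dvd_coprimes (S.cop.pow_right k) h2 h1))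
      · obtain ⟨k, hk⟩ := hNp ⟨_, hxN⟩
        have hk' : (π g) ^ r ^ k = 1 := congrArg (fun y : X => (y : Equiv.Perm V)) (congrArg Subtype.val hk)
        have hgp : IsPGroup r (Subgroup.zpowers (π g)) := by
          rintro ⟨y, m, rfl⟩
          exact ⟨k, Subtype.ext (by
            show ((π g) ^ m) ^ r ^ k = 1
            rw [← zpow_natCast ((π g) ^ m), ← zpow_mul, mul_comm, zpow_mul, zpow_natCast, hk', one_zpow])⟩
        exact hr5 (horder g hg r hr hge hgp hne).1
    set F := Cfsg.pCore 5 X with hFd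
    have hFit : Cfsg.fittingSubgroup X ≤ F := Cores.fittingSubgroup_le_of_pCore_le fun r hr => by
      rcases eq_or_ne r 5 with rfl | h
      · exact le_rfl
      · rw [hodd r hr h]; exact bot_le
    -- `b` centralises `F`
    have hFb : ∀ x : X, x ∈ F → π b * x * (π b)⁻¹ = x := by
      intro x hx
      by_cases hx1 : x = 1
      · subst hx1; simp
      haveI : Nontrivial F := ⟨⟨⟨x, hx⟩, 1, fun h => hx1 (congrArg Subtype.val h)⟩⟩
      have hsemi : ∀ y : X, y ∈ F → y ≠ 1 → ∀ v : V, (y : Equiv.Perm V) v = v → v = 1 := by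
        intro y hy hy1 v hv
        obtain ⟨g, hg, hgy⟩ := y.2
        obtain ⟨k, hk⟩ := Cores.pCore_isPGroup 5 X ⟨y, hy⟩
        have hk' : (π g) ^ 5 ^ k = 1 := by
          rw [hgy]; exact congrArg (fun t : F => ((t : X) : Equiv.Perm V)) hk
        have hgp : IsPGroup 5 (Subgroup.zpowers (π g)) := by
          rintro ⟨y', m, rfl⟩
          exact ⟨k, Subtype.ext (by
            show ((π g) ^ m) ^ 5 ^ k = 1
            rw [← zpow_natCast ((π g) ^ m), ← zpow_mul, mul_comm, zpow_mul, zpow_natCast, hk', one_zpow])⟩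
        have h := (horder g hg 5 (by norm_num) le_rfl hgp
          (fun e => hy1 (Subtype.ext (hgy ▸ e)))).2.2
        have hbot := Subgroup.card_eq_one.1 h
        have : v ∈ fixV g := show π g v = v by rw [hgy]; exact hv
        rwa [hbot, Subgroup.mem_bot] at this
      have hV16e : Nat.card V = 16 := by
        obtain ⟨g, hg, hgy⟩ := x.2
        obtain ⟨k, hk⟩ := Cores.pCore_isPGroup 5 X ⟨x, hx⟩
        have hk' : (π g) ^ 5 ^ k = 1 := by
          rw [hgy]; exact congrArg (fun t : F => ((t : X) : Equiv.Perm V)) hk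
        have hgp : IsPGroup 5 (Subgroup.zpowers (π g)) := by
          rintro ⟨y', m, rfl⟩
          exact ⟨k, Subtype.ext (by
            show ((π g) ^ m) ^ 5 ^ k = 1
            rw [← zpow_natCast ((π g) ^ m), ← zpow_mul, mul_comm, zpow_mul, zpow_natCast, hk', one_zpow])⟩
        exact (horder g hg 5 (by norm_num) le_rfl hgp (fun e => hx1 (Subtype.ext (hgy ▸ e)))).2.1
      obtain ⟨v₁, hv₁⟩ : ∃ v : V, v ≠ 1 :=
        haveI : Nontrivial V := Finite.one_lt_card_iff_nontrivial.1 (by rw [hV16e]; norm_num)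
        exists_ne 1
      have hcard : Nat.card F ≤ 15 := by
        have hinj : Function.Injective (fun y : F => (⟨((y : X) : Equiv.Perm V) v₁, fun h => hv₁
            (((y : X) : Equiv.Perm V).injective (h.trans (by
              obtain ⟨g, hg, hgy⟩ := (y : X).2
              show (1 : V) = ((y : X) : Equiv.Perm V) 1
              rw [← hgy, hπ, map_one])))⟩ : {v : V // v ≠ 1})) := by
          intro y y' h
          have h' : ((y : X) : Equiv.Perm V) v₁ = ((y' : X) : Equiv.Perm V) v₁ := congrArg Subtype.val h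
          by_contra hne
          refine hv₁ (hsemi ((y' : X)⁻¹ * y) (F.mul_mem (F.inv_mem y'.2) y.2) (fun e => hne ?_) v₁ ?_)
          · exact Subtype.ext (inv_mul_eq_one.1 e).symm
          · show (((y' : X) : Equiv.Perm V)⁻¹ * ((y : X) : Equiv.Perm V)) v₁ = v₁
            rw [Equiv.Perm.mul_apply, h', Equiv.Perm.coe_inv, Equiv.symm_apply_apply]
        refine (Nat.card_le_card_of_injective _ hinj).trans ?_
        have h1 : Nat.card {v : V // v ≠ 1} < Nat.card V := Finite.card_subtype_lt (x := 1) (by simp)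
        omega
      have hF5 : Nat.card F = 5 := by
        obtain ⟨j, hj⟩ := IsPGroup.iff_card.1 (Cores.pCore_isPGroup 5 X)
        rcases j with _ | _ | j
        · exfalso
          have := Finite.one_lt_card_iff_nontrivial.2 (inferInstance : Nontrivial F)
          rw [show Nat.card F = 5 ^ 0 from hj] at this; norm_num at this
        · rw [show Nat.card F = 5 ^ 1 from hj, pow_one]
        · exfalso
          have hh : 5 ^ 2 ≤ 5 ^ (j + 1 + 1) := Nat.pow_le_pow_right (by norm_num) (by omega)
          rw [← show Nat.card F = 5 ^ (j + 1 + 1) from hj] at hh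
          omega
      have hgen : F = Subgroup.zpowers x := by
        refine (Subgroup.eq_of_le_of_card_ge (Subgroup.zpowers_le.2 hx) ?_).symm
        rw [hF5, Nat.card_zpowers]
        have hdvd : orderOf x ∣ 5 := hF5 ▸ Subgroup.orderOf_dvd_natCard F hx
        rcases (Nat.dvd_prime (by norm_num)).1 hdvd with h | h
        · exact absurd (orderOf_eq_one_iff.1 h) hx1
        · rw [h]
      -- conjugation by `b` permutes `F`
      let β : X ≃* X :=
        { toFun := fun y => ⟨π b * y * (π b)⁻¹, hXb y y.2⟩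
          invFun := fun y => ⟨(π b)⁻¹ * y * π b, by
            obtain ⟨g, hg, hgy⟩ := y.2
            exact ⟨b⁻¹ * g * b, by simpa using hRn.conj_mem g hg b⁻¹,
              by rw [map_mul, map_mul, map_inv, hgy]⟩⟩
          left_inv := fun y => Subtype.ext (by simp [mul_assoc])
          right_inv := fun y => Subtype.ext (by simp [mul_assoc])
          map_mul' := fun y y' => Subtype.ext (by simp [mul_assoc]) }
      have hβF : β x ∈ Subgroup.zpowers x := by
        have hmap := Cores.map_pCore_equiv (p := 5) β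
        rw [← hgen]
        show β x ∈ Cfsg.pCore 5 X
        rw [← hmap]
        exact Subgroup.mem_map_of_mem _ hx
      obtain ⟨m, hm⟩ := hβF
      have hβ3 : β (β (β x)) = x := Subtype.ext (by
        show π b * (π b * (π b * x * (π b)⁻¹) * (π b)⁻¹) * (π b)⁻¹ = x
        calc _ = (π b * π b * π b) * x * (π b * π b * π b)⁻¹ := by group
          _ = x := by rw [← map_mul, ← map_mul, hb_mem, map_one]; simp)
      have hm3 : x ^ (m * m * m) = x := by
        nth_rewrite 2 [← hβ3]
        have hm' : β x = x ^ m := hm.symm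
        rw [hm', map_zpow, hm', ← zpow_mul, map_zpow, hm', ← zpow_mul, mul_assoc]
      have ho : orderOf x = 5 := by rw [← Nat.card_zpowers, ← hgen, hF5]
      have hm1 : (m : ZMod 5) * m * m = 1 := by
        have h := (orderOf_dvd_sub_iff_zpow_eq_zpow (x := x) (a := m * m * m) (b := 1)).2 (by rw [hm3, zpow_one])
        rw [ho, ← ZMod.intCast_zmod_eq_zero_iff_dvd] at h
        push_cast at h
        exact sub_eq_zero.1 h
      have hm11 : x ^ m = x := by
        conv_rhs => rw [← zpow_one x]
        rw [← orderOf_dvd_sub_iff_zpow_eq_zpow, ho, ← ZMod.intCast_zmod_eq_zero_iff_dvd]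
        push_cast
        rw [zmod_five_cube _ hm1, sub_self]
      show (β x : Equiv.Perm V) = x
      have hm' : β x = x ^ m := hm.symm
      rw [hm', hm11]
    -- everything centralises `F`
    let K : Subgroup H :=
      { carrier := {g | ∀ x : X, x ∈ F → π g * x * (π g)⁻¹ = x}
        one_mem' := fun x _ => by simp
        mul_mem' := fun {g h} hg hh x hx => by
          rw [map_mul, mul_inv_rev, show π g * π h * (x : Equiv.Perm V) * ((π h)⁻¹ * (π g)⁻¹) =
            π g * (π h * x * (π h)⁻¹) * (π g)⁻¹ by group, hh x hx, hg x hx]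
        inv_mem' := fun {g} hg x hx => by
          rw [map_inv, inv_inv]
          conv_lhs => rw [← hg x hx]
          group }
    have hcg : ∀ g : H, ∀ y : X, y ∈ F → ∃ y' : X, y' ∈ F ∧ (y' : Equiv.Perm V) = π g * y * (π g)⁻¹ := by
      intro g
      have hXg : ∀ y : X, π g * y * (π g)⁻¹ ∈ X := fun y => by
        obtain ⟨r, hr, hry⟩ := y.2
        exact ⟨g * r * g⁻¹, hRn.conj_mem r hr g, by rw [map_mul, map_mul, map_inv, hry]⟩
      let β : X ≃* X :=
        { toFun := fun y => ⟨π g * y * (π g)⁻¹, hXg y⟩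
          invFun := fun y => ⟨(π g)⁻¹ * y * π g, by
            obtain ⟨r, hr, hry⟩ := y.2
            exact ⟨g⁻¹ * r * g, by simpa using hRn.conj_mem r hr g⁻¹,
              by rw [map_mul, map_mul, map_inv, hry]⟩⟩
          left_inv := fun y => Subtype.ext (by simp [mul_assoc])
          right_inv := fun y => Subtype.ext (by simp [mul_assoc])
          map_mul' := fun y y' => Subtype.ext (by simp [mul_assoc]) }
      intro y hy
      refine ⟨β y, ?_, rfl⟩
      show β y ∈ Cfsg.pCore 5 X
      rw [← Cores.map_pCore_equiv (p := 5) β]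
      exact Subgroup.mem_map_of_mem _ hy
    haveI : K.Normal := ⟨fun k hk g x hx => by
      obtain ⟨x', hx', hx'e⟩ := hcg g⁻¹ x hx
      have h := hk x' hx'
      rw [hx'e, map_inv, inv_inv] at h
      rw [map_mul, map_mul, map_inv]
      calc π g * π k * (π g)⁻¹ * x * (π g * π k * (π g)⁻¹)⁻¹
          = π g * (π k * ((π g)⁻¹ * x * π g) * (π k)⁻¹) * (π g)⁻¹ := by group
        _ = (x : Equiv.Perm V) := by rw [h]; group⟩
    have hK : K = ⊤ := S.eq_top_of_mem (K := K) hFb
    have hcent : ∀ y : X, y ∈ F := by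
      intro y
      refine hFit (Cores.centralizer_fittingSubgroup_le (inferInstance) (Subgroup.mem_centralizer_iff.2 fun x hx => ?_))
      obtain ⟨g, hg, hgy⟩ := y.2
      have h := (hK ▸ Subgroup.mem_top g : g ∈ K) x (hFit hx)
      refine Subtype.ext ?_
      show (x : Equiv.Perm V) * y = y * x
      rw [← hgy]
      conv_lhs => rw [← h]
      group
    -- now `b` centralises the image, so the image is trivial
    let K₂ : Subgroup H :=
      { carrier := {g | ∀ r ∈ R, π g * π r = π r * π g}
        one_mem' := fun r _ => by simp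
        mul_mem' := fun {g h} hg hh r hr => by
          rw [map_mul, mul_assoc, hh r hr, ← mul_assoc, hg r hr, mul_assoc]
        inv_mem' := fun {g} hg r hr => by
          rw [map_inv]
          calc (π g)⁻¹ * π r = (π g)⁻¹ * (π r * π g) * (π g)⁻¹ := by group
            _ = (π g)⁻¹ * (π g * π r) * (π g)⁻¹ := by rw [hg r hr]
            _ = π r * (π g)⁻¹ := by group }
    have hbK : b ∈ K₂ := fun r hr => by
      have h := hFb ⟨π r, r, hr, rfl⟩ (hcent _)
      calc π b * π r = π b * π r * (π b)⁻¹ * π b := by group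
        _ = π r * π b := by rw [h]
    have hkill : R ≤ π.ker := by
      conv_lhs => rw [← S.comm]
      refine Subgroup.commutator_le.2 fun r hr c hc => ?_
      have hcK : c ∈ K₂ := Subgroup.zpowers_le.2 hbK hc
      rw [MonoidHom.mem_ker, map_commutatorElement, commutatorElement_eq_one_iff_mul_comm]
      exact (hcK r hr).symm
    exact hg₀1 (hkill hg₀)
  -- so `R = P` has order `32`
  have hRP : R = P := le_antisymm (fun g hg => hkerP g hg (hX g hg)) hPR
  have hQP : ∀ q ∈ Q, q ∈ P := fun q hq => hRP ▸ S.qR hq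
  have hzQ : z ∉ Q := fun h => hz1 (S.qfix z h (Y.zcen b))
  have hQab : ∀ a ∈ Q, ∀ c ∈ Q, a * c = c * a := fun a ha c hc => by
    rw [← inv_eq_of_mul_eq_one_right (S.qsq _ (Q.mul_mem ha hc)), mul_inv_rev,
      inv_eq_of_mul_eq_one_right (S.qsq _ ha), inv_eq_of_mul_eq_one_right (S.qsq _ hc)]
  let A : Subgroup H :=
    { carrier := {a | a ∈ Q ∨ a * z ∈ Q}
      one_mem' := Or.inl Q.one_mem
      mul_mem' := fun {u v} hu hv => by
        rcases hu with hu | hu <;> rcases hv with hv | hv
        · exact Or.inl (Q.mul_mem hu hv)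
        · right; rw [mul_assoc]; exact Q.mul_mem hu hv
        · right
          have := Q.mul_mem hu hv
          rwa [mul_assoc, ← Y.zcen v, ← mul_assoc] at this
        · left
          have := Q.mul_mem hu hv
          rwa [mul_assoc u, ← mul_assoc z, ← Y.zcen v, mul_assoc v z z, Y.zz, mul_one] at this
      inv_mem' := fun {u} hu => by
        rcases hu with hu | hu
        · exact Or.inl (Q.inv_mem hu)
        · right
          have := Q.inv_mem hu
          rwa [mul_inv_rev, hzinv, ← Y.zcen] at this }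
  have hAsq : ∀ a ∈ A, a * a = 1 := by
    rintro a (ha | ha)
    · exact S.qsq a ha
    · have := S.qsq _ ha
      rwa [mul_assoc a, ← mul_assoc z, ← Y.zcen a, mul_assoc a z z, Y.zz, mul_one] at this
  have hA8 : Nat.card A = 8 := by
    have e : (A : Set H) = (Q : Set H) ∪ (fun q => q * z) '' (Q : Set H) := by
      ext a
      constructor
      · rintro (h | h)
        · exact Or.inl h
        · exact Or.inr ⟨a * z, h, show a * z * z = a by rw [mul_assoc, Y.zz, mul_one]⟩
      · rintro (h | ⟨q, hq, rfl⟩)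
        · exact Or.inl h
        · exact Or.inr (show q * z * z ∈ Q by rw [mul_assoc, Y.zz, mul_one]; exact hq)
    have hd : Disjoint (Q : Set H) ((fun q => q * z) '' (Q : Set H)) := Set.disjoint_left.2 fun a ha h => by
      obtain ⟨q, hq, rfl⟩ := h
      exact hzQ (by simpa using Q.mul_mem (Q.inv_mem hq) ha)
    have hq4 : (Q : Set H).ncard = 4 := by rw [← Nat.card_coe_set_eq]; exact S.qcard
    rw [← SetLike.coe_sort_coe, Nat.card_coe_set_eq, e,
      Set.ncard_union_eq hd (Set.toFinite _) (Set.toFinite _),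
      Set.ncard_image_of_injective _ (mul_left_injective z), hq4]
  have hAP : A ≤ P := by
    rintro a (ha | ha)
    · exact hQP a ha
    · have := P.mul_mem (hQP _ ha) Y.zP
      rwa [mul_assoc, Y.zz, mul_one] at this
  obtain ⟨x₀, hx₀, y₀, hy₀, hxy₀⟩ := Y.nab
  have hP32 : Nat.card P = 32 := by
    have hdvd : 8 ∣ Nat.card P := hA8 ▸ Subgroup.card_dvd_of_le hAP
    have hV4 : 4 ≤ Nat.card V := by
      have h1 : 8 ≤ Nat.card P := Nat.le_of_dvd Nat.card_pos hdvd
      omega
    have hne4 : Nat.card V ≠ 4 := fun h => by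
      have hPA : A = P := Subgroup.eq_of_le_of_card_ge hAP (by rw [hA8, hcardP, h])
      apply hxy₀
      rw [← inv_eq_of_mul_eq_one_right (hAsq (x₀ * y₀) (by rw [hPA]; exact P.mul_mem hx₀ hy₀)), mul_inv_rev,
        inv_eq_of_mul_eq_one_right (hAsq x₀ (by rw [hPA]; exact hx₀)),
        inv_eq_of_mul_eq_one_right (hAsq y₀ (by rw [hPA]; exact hy₀))]
    rcases (Nat.dvd_prime_pow Nat.prime_two).1 (show Nat.card V ∣ 2 ^ 4 by exact hV16) with ⟨i, hi, hi'⟩
    interval_cases i <;> omega
  have hRex : Cfsg.IsExtraspecial 2 P := by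
    refine PGroups.SymplecticType.isExtraspecial_of twoPart_isPGroup (fun h => hxy₀ ?_) hZcard ?_ fun x => ?_
    · exact congrArg Subtype.val (h.1.comm ⟨x₀, hx₀⟩ ⟨y₀, hy₀⟩)
    · rw [commutator_def, Subgroup.commutator_le]
      intro a _ c _
      exact (hZc _).2 (Y.comm a a.2 c c.2)
    · refine (hZc _).2 ?_
      rw [SubgroupClass.coe_pow, pow_two]
      exact Y.sqz x x.2
  apply hC
  rw [hRP]
  exact Or.inr ⟨hRex, hP32, A, hAP, elemAb_of_sq hAsq, hA8⟩

end Cfsg.Agent.Lib.JordanThree
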