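import Mathlib

/-!
# Transitive groups with a normal `3'`-subgroup and a generating 3-cycle
-/

set_option autoImplicit false
set_option linter.unusedSectionVars false

namespace Cfsg.Agent.Lib.JordanThree

open Equiv

variable {Y : Type*} [DecidableEq Y]

/-- A three-cycle. -/
def cyc (a u v : Y) : Perm Y := swap a u * swap u v

theorem cyc_apply (a u v w : Y) (h1 : a ≠ u) (h2 : a ≠ v) (h3 : u ≠ v) :
    cyc a u v w = if w = a then u else if w = u then v else if w = v then a else w := by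
  simp only [cyc, Perm.mul_apply, swap_apply_def]
  split_ifs <;> simp_all

theorem cyc_rot {a u v : Y} (h1 : a ≠ u) (h2 : a ≠ v) (h3 : u ≠ v) : cyc a u v = cyc u v a := by
  ext w
  rw [cyc_apply a u v w h1 h2 h3, cyc_apply u v a w h3 (Ne.symm h1) (Ne.symm h2)]
  split_ifs <;> simp_all

theorem cyc_pow {a u v : Y} (h1 : a ≠ u) (h2 : a ≠ v) (h3 : u ≠ v) : cyc a u v ^ 3 = 1 := by
  ext w
  simp only [pow_succ, pow_zero, one_mul, Perm.mul_apply, Perm.one_apply, cyc_apply _ _ _ _ h1 h2 h3]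
  split_ifs <;> simp_all

theorem cyc_comm {a u v e f : Y} (h : [a, u, v, e, f].Nodup) :
    cyc a u v * cyc a e f * (cyc a u v)⁻¹ * (cyc a e f)⁻¹ = cyc u e a ∨
    cyc a u v * cyc a e f * (cyc a u v)⁻¹ * (cyc a e f)⁻¹ = cyc a e u := by
  simp only [List.nodup_cons, List.mem_cons, List.not_mem_nil, not_false_iff, List.nodup_nil, and_true,
    not_or] at h
  obtain ⟨⟨h1, h2, h3, h4⟩, ⟨h5, h6, h7⟩, ⟨h8, h9⟩, h10⟩ := h
  left
  suffices key : cyc a u v * cyc a e f = cyc u e a * cyc a e f * cyc a u v by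
    rw [key]; group
  refine Equiv.ext fun w => ?_
  simp only [Perm.mul_apply, cyc_apply a u v _ h1 h2 h5, cyc_apply a e f _ h3 h4 h10,
    cyc_apply u e a _ h6 (Ne.symm h1) (Ne.symm h3)]
  rcases eq_or_ne w a with ha | ha
  · rw [ha]; simp [h1, h2, h3, h4, h5, h6, h7, h8, h9, h10, Ne.symm h1, Ne.symm h2, Ne.symm h3, Ne.symm h4, Ne.symm h5, Ne.symm h6, Ne.symm h7, Ne.symm h8, Ne.symm h9, Ne.symm h10]
  rcases eq_or_ne w u with hu | hu
  · rw [hu]; simp [h1, h2, h3, h4, h5, h6, h7, h8, h9, h10, Ne.symm h1, Ne.symm h2, Ne.symm h3, Ne.symm h4, Ne.symm h5, Ne.symm h6, Ne.symm h7, Ne.symm h8, Ne.symm h9, Ne.symm h10]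
  rcases eq_or_ne w v with hv | hv
  · rw [hv]; simp [h1, h2, h3, h4, h5, h6, h7, h8, h9, h10, Ne.symm h1, Ne.symm h2, Ne.symm h3, Ne.symm h4, Ne.symm h5, Ne.symm h6, Ne.symm h7, Ne.symm h8, Ne.symm h9, Ne.symm h10]
  rcases eq_or_ne w e with he | he
  · rw [he]; simp [h1, h2, h3, h4, h5, h6, h7, h8, h9, h10, Ne.symm h1, Ne.symm h2, Ne.symm h3, Ne.symm h4, Ne.symm h5, Ne.symm h6, Ne.symm h7, Ne.symm h8, Ne.symm h9, Ne.symm h10]
  rcases eq_or_ne w f with hf | hf
  · rw [hf]; simp [h1, h2, h3, h4, h5, h6, h7, h8, h9, h10, Ne.symm h1, Ne.symm h2, Ne.symm h3, Ne.symm h4, Ne.symm h5, Ne.symm h6, Ne.symm h7, Ne.symm h8, Ne.symm h9, Ne.symm h10]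
  simp [ha, hu, hv, he, hf]

/-- At most four points. -/
theorem card_le_four {H : Type*} [Group H] [Fintype Y] (φ : H →* Perm Y)
    (R : Subgroup H) [R.Normal] (b : H) (hcop : (Nat.card R).Coprime 3)
    (hab : ∀ g h : H, g * h * g⁻¹ * h⁻¹ ∈ R)
    (htr : ∀ x y : Y, ∃ g, φ g x = y) {p₀ p₁ p₂ : Y} (h1 : p₀ ≠ p₁) (h2 : p₀ ≠ p₂) (h3 : p₁ ≠ p₂)
    (hb : φ b = cyc p₀ p₁ p₂) : Fintype.card Y ≤ 4 := by
  classical
  set T : Finset Y := {p₀, p₁, p₂} with hT
  have hcube : ∀ r ∈ R, φ r ^ 3 = 1 → φ r = 1 := fun r hr h => by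
    refine orderOf_eq_one_iff.1 (Nat.eq_one_of_dvd_coprimes hcop ?_ (orderOf_dvd_of_pow_eq_one h))
    exact (orderOf_map_dvd φ r).trans (Subgroup.orderOf_dvd_natCard _ hr)
  have hconj : ∀ g, φ (g * b * g⁻¹) = cyc (φ g p₀) (φ g p₁) (φ g p₂) := fun g => by
    rw [map_mul, map_mul, map_inv, hb]
    simp [cyc, Equiv.swap_apply_apply, mul_assoc]
  -- two conjugate supports share at least two points
  have hmeet : ∀ g, 2 ≤ (T ∩ T.image (φ g)).card := by
    intro g
    set q₀ := φ g p₀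
    set q₁ := φ g p₁
    set q₂ := φ g p₂
    have k1 : q₀ ≠ q₁ := fun e => h1 ((φ g).injective e)
    have k2 : q₀ ≠ q₂ := fun e => h2 ((φ g).injective e)
    have k3 : q₁ ≠ q₂ := fun e => h3 ((φ g).injective e)
    have himg : T.image (φ g) = {q₀, q₁, q₂} := by simp [hT, q₀, q₁, q₂]
    -- no common point: the quotient has order three
    have hzero : ¬ Disjoint T (T.image (φ g)) := by
      intro hd
      have hd' : ∀ x, x ∈ T → x ≠ q₀ ∧ x ≠ q₁ ∧ x ≠ q₂ := fun x hx => by
        have := Finset.disjoint_left.1 hd hx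
        rw [himg] at this
        simpa using this
      have hdis : Perm.Disjoint (cyc p₀ p₁ p₂) (cyc q₀ q₁ q₂) := by
        intro w
        rw [cyc_apply _ _ _ _ h1 h2 h3, cyc_apply _ _ _ _ k1 k2 k3]
        have a0 := hd' p₀ (by simp [hT])
        have a1 := hd' p₁ (by simp [hT])
        have a2 := hd' p₂ (by simp [hT])
        by_cases hw : w = p₀ ∨ w = p₁ ∨ w = p₂
        · right; rcases hw with rfl | rfl | rfl <;> simp [a0, a1, a2]
        · left; push Not at hw; simp [hw]
      have hr : φ (g * b * g⁻¹ * b⁻¹) = cyc q₀ q₁ q₂ * (cyc p₀ p₁ p₂)⁻¹ := by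
        rw [map_mul, hconj, map_inv, hb]
      have h := hcube _ (hab g b) (by
        rw [hr, (hdis.commute.symm.inv_right).mul_pow, inv_pow, cyc_pow k1 k2 k3, cyc_pow h1 h2 h3,
          inv_one, mul_one])
      rw [hr, mul_inv_eq_one] at h
      have := congrArg (fun π : Perm Y => π p₀) h
      simp only [cyc_apply _ _ _ _ h1 h2 h3, cyc_apply _ _ _ _ k1 k2 k3, if_true] at this
      have a0 := hd' p₀ (by simp [hT])
      simp [a0] at this
      exact h1 this
    by_contra hlt
    push Not at hlt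
    have hone : (T ∩ T.image (φ g)).card = 1 := by
      have : (T ∩ T.image (φ g)).card ≠ 0 := fun e => hzero (Finset.disjoint_iff_inter_eq_empty.2
        (Finset.card_eq_zero.1 e))
      omega
    obtain ⟨a, ha⟩ := Finset.card_eq_one.1 hone
    -- rotate so that both cycles start at the common point
    obtain ⟨u, v, hu, huv, hc, hTe⟩ : ∃ u v, a ≠ u ∧ a ≠ v ∧ (u ≠ v ∧ cyc p₀ p₁ p₂ = cyc a u v) ∧
        T = {a, u, v} := by
      have haT : a ∈ T := (Finset.mem_inter.1 (ha ▸ Finset.mem_singleton_self a)).1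
      simp only [hT, Finset.mem_insert, Finset.mem_singleton] at haT
      rcases haT with rfl | rfl | rfl
      · exact ⟨p₁, p₂, h1, h2, ⟨h3, rfl⟩, rfl⟩
      · exact ⟨p₂, p₀, h3, Ne.symm h1, ⟨Ne.symm h2, cyc_rot h1 h2 h3⟩, by rw [hT]; ext x; simp; tauto⟩
      · exact ⟨p₀, p₁, Ne.symm h2, Ne.symm h3, ⟨h1, by rw [cyc_rot h1 h2 h3, cyc_rot h3 (Ne.symm h1) (Ne.symm h2)]⟩,
          by rw [hT]; ext x; simp; tauto⟩
    obtain ⟨e, f, he, hef, hc', hTf⟩ : ∃ e f, a ≠ e ∧ a ≠ f ∧ (e ≠ f ∧ cyc q₀ q₁ q₂ = cyc a e f) ∧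
        T.image (φ g) = {a, e, f} := by
      have haT : a ∈ T.image (φ g) := (Finset.mem_inter.1 (ha ▸ Finset.mem_singleton_self a)).2
      rw [himg] at haT ⊢
      simp only [Finset.mem_insert, Finset.mem_singleton] at haT
      rcases haT with rfl | rfl | rfl
      · exact ⟨q₁, q₂, k1, k2, ⟨k3, rfl⟩, rfl⟩
      · exact ⟨q₂, q₀, k3, Ne.symm k1, ⟨Ne.symm k2, cyc_rot k1 k2 k3⟩, by ext x; simp; tauto⟩
      · exact ⟨q₀, q₁, Ne.symm k2, Ne.symm k3, ⟨k1, by rw [cyc_rot k1 k2 k3, cyc_rot k3 (Ne.symm k1) (Ne.symm k2)]⟩,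
          by ext x; simp; tauto⟩
    have hout : ∀ x, x ∈ T → x ∈ T.image (φ g) → x = a := fun x hx hx' =>
      Finset.mem_singleton.1 (ha ▸ Finset.mem_inter.2 ⟨hx, hx'⟩)
    have n1 : u ≠ e := fun h => hu (hout u (by rw [hTe]; simp) (by rw [hTf, h]; simp)).symm
    have n2 : u ≠ f := fun h => hu (hout u (by rw [hTe]; simp) (by rw [hTf, h]; simp)).symm
    have n3 : v ≠ e := fun h => huv (hout v (by rw [hTe]; simp) (by rw [hTf, h]; simp)).symm
    have n4 : v ≠ f := fun h => huv (hout v (by rw [hTe]; simp) (by rw [hTf, h]; simp)).symm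
    have hnd : [a, u, v, e, f].Nodup := by simp [hu, huv, he, hef, hc.1, hc'.1, n1, n2, n3, n4]
    have hr : φ (b * (g * b * g⁻¹) * b⁻¹ * (g * b * g⁻¹)⁻¹) =
        cyc a u v * cyc a e f * (cyc a u v)⁻¹ * (cyc a e f)⁻¹ := by
      rw [map_mul, map_mul, map_mul, map_inv, map_inv, hconj, hb, hc.2]
      show _ * cyc q₀ q₁ q₂ * _ * (cyc q₀ q₁ q₂)⁻¹ = _
      rw [hc'.2]
    rcases cyc_comm hnd with h | h
    · have h0 := hcube _ (hab b _) (by rw [hr, h]; exact cyc_pow n1 (Ne.symm hu) (Ne.symm he))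
      rw [hr, h] at h0
      have := congrArg (fun π : Perm Y => π u) h0
      simp [cyc_apply _ _ _ _ n1 (Ne.symm hu) (Ne.symm he)] at this
      exact n1 this.symm
    · have h0 := hcube _ (hab b _) (by rw [hr, h]; exact cyc_pow he hu (Ne.symm n1))
      rw [hr, h] at h0
      have := congrArg (fun π : Perm Y => π a) h0
      simp [cyc_apply _ _ _ _ he hu (Ne.symm n1)] at this
      exact he this.symm
  have hpair : ∀ g g', 2 ≤ (T.image (φ g) ∩ T.image (φ g')).card := fun g g' => by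
    have h := hmeet (g⁻¹ * g')
    rw [← Finset.card_image_of_injective _ (φ g).injective, Finset.image_inter _ _ (φ g).injective,
      Finset.image_image] at h
    convert h using 3
    ext x
    simp [map_mul]
  have hcard3 : T.card = 3 := Finset.card_eq_three.2 ⟨p₀, p₁, p₂, h1, h2, h3, rfl⟩
  by_contra hk
  push Not at hk
  obtain ⟨y, hy⟩ : ∃ y, y ∉ T := by
    by_contra hall
    push Not at hall
    have : Fintype.card Y ≤ T.card := by
      rw [← Finset.card_univ]; exact Finset.card_le_card (fun x _ => hall x)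
    omega
  obtain ⟨g, hg⟩ := htr p₀ y
  set T' := T.image (φ g) with hT'
  have hyT' : y ∈ T' := Finset.mem_image.2 ⟨p₀, by simp [hT], hg⟩
  have hT'3 : T'.card = 3 := by rw [hT', Finset.card_image_of_injective _ (φ g).injective, hcard3]
  set P := T ∩ T' with hP
  have hP2 : P.card = 2 := by
    refine le_antisymm ?_ (hmeet g)
    have : P ⊆ T'.erase y := fun x hx => Finset.mem_erase.2
      ⟨fun e => hy (e ▸ (Finset.mem_inter.1 hx).1), (Finset.mem_inter.1 hx).2⟩
    have := Finset.card_le_card this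
    rw [Finset.card_erase_of_mem hyT', hT'3] at this
    exact this
  have hT'eq : T' = insert y P := by
    refine (Finset.eq_of_subset_of_card_le ?_ ?_).symm
    · exact Finset.insert_subset hyT' Finset.inter_subset_right
    · rw [Finset.card_insert_of_notMem (fun h => hy (Finset.mem_inter.1 h).1), hP2, hT'3]
  obtain ⟨z, hz⟩ : ∃ z, z ∉ insert y T := by
    by_contra hall
    push Not at hall
    have : Fintype.card Y ≤ (insert y T).card := by
      rw [← Finset.card_univ]; exact Finset.card_le_card (fun x _ => hall x)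
    rw [Finset.card_insert_of_notMem hy] at this
    omega
  obtain ⟨g', hg'⟩ := htr p₀ z
  set U := T.image (φ g') with hU
  set P' := U.filter (fun x => x ∈ insert y T) with hP'
  have hP'2 : P'.card ≤ 2 := by
    have : P' ⊆ U.erase z := fun x hx => Finset.mem_erase.2
      ⟨fun e => hz (e ▸ (Finset.mem_filter.1 hx).2), (Finset.mem_filter.1 hx).1⟩
    have := Finset.card_le_card this
    have hU3 : U.card = 3 :=
      (Finset.card_image_of_injective _ (φ g').injective).trans hcard3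
    have hzU : z ∈ U := Finset.mem_image.2 ⟨p₀, by simp [hT], hg'⟩
    rw [Finset.card_erase_of_mem hzU, hU3] at this
    omega
  have hbT : ∀ x ∈ T, φ b x ∈ T := fun x hx => by
    rw [hb, cyc_apply _ _ _ _ h1 h2 h3]
    simp only [hT, Finset.mem_insert, Finset.mem_singleton] at hx ⊢
    rcases hx with rfl | rfl | rfl <;> simp [Ne.symm h1, Ne.symm h2, Ne.symm h3]
  have hin : ∀ γ, T.image (φ γ) ⊆ insert y T → P' ⊆ T.image (φ γ) := fun γ hγ => by
    have hsub : U ∩ T.image (φ γ) ⊆ P' := fun x hx => Finset.mem_filter.2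
      ⟨(Finset.mem_inter.1 hx).1, hγ (Finset.mem_inter.1 hx).2⟩
    have := Finset.eq_of_subset_of_card_le hsub (hP'2.trans (hpair g' γ))
    exact this ▸ Finset.inter_subset_right
  have hPT : P' ⊆ T := by
    have := hin 1 (by simp)
    simpa using this
  have hPT' : P' ⊆ T' := hin g (by
    show T' ⊆ _
    rw [hT'eq]
    exact Finset.insert_subset_insert _ Finset.inter_subset_left)
  have hP'P : P' = P := by
    refine Finset.eq_of_subset_of_card_le (Finset.subset_inter hPT hPT') ?_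
    rw [hP2]
    refine le_trans (hpair g' 1) (Finset.card_le_card fun x hx => ?_)
    have hx' := Finset.mem_inter.1 hx
    exact Finset.mem_filter.2 ⟨hx'.1, Finset.mem_insert_of_mem (by simpa using hx'.2)⟩
  have hby : φ b y = y := by
    rw [hb, cyc_apply _ _ _ _ h1 h2 h3]
    simp only [hT, Finset.mem_insert, Finset.mem_singleton, not_or] at hy
    simp [hy]
  have himgb : T.image (φ (b * g)) = T'.image (φ b) := by
    rw [hT', Finset.image_image, map_mul]; rfl
  have hPb : P' ⊆ T'.image (φ b) := himgb ▸ hin (b * g) (by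
    rw [himgb]
    intro x hx
    rw [hT'eq] at hx
    obtain ⟨x', hx', rfl⟩ := Finset.mem_image.1 hx
    clear hx
    rename' x' => x
    rcases Finset.mem_insert.1 hx' with rfl | hx
    · rw [hby]; exact Finset.mem_insert_self _ _
    · exact Finset.mem_insert_of_mem (hbT x (Finset.mem_inter.1 hx).1))
  have hPP : P.image (φ b) = P := by
    symm
    refine Finset.eq_of_subset_of_card_le (fun x hx => ?_) ?_
    · obtain ⟨x', hx', rfl⟩ := Finset.mem_image.1 (hPb (hP'P ▸ hx))
      rw [hT'eq] at hx'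
      rcases Finset.mem_insert.1 hx' with rfl | h'
      · exact absurd (Finset.mem_inter.1 hx).1 (hby.symm ▸ hy)
      · exact Finset.mem_image.2 ⟨_, h', rfl⟩
    · rw [Finset.card_image_of_injective _ (φ b).injective]
  obtain ⟨x, hxT, hxP⟩ : ∃ x ∈ T, x ∉ P := by
    by_contra hall
    push Not at hall
    have := Finset.card_le_card hall
    omega
  have hfix : φ b x = x := by
    by_contra hne
    have hTeq : T = insert x P := (Finset.eq_of_subset_of_card_le
      (Finset.insert_subset hxT Finset.inter_subset_left)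
      (by rw [Finset.card_insert_of_notMem hxP, hP2, hcard3])).symm
    have hxx := hbT x hxT
    rw [hTeq] at hxx
    rcases Finset.mem_insert.1 hxx with h | h
    · exact hne h
    · rw [← hPP] at h
      obtain ⟨w, hw, hw'⟩ := Finset.mem_image.1 h
      exact hxP ((φ b).injective hw' ▸ hw)
  rw [hb, cyc_apply _ _ _ _ h1 h2 h3] at hfix
  simp only [hT, Finset.mem_insert, Finset.mem_singleton] at hxT
  rcases hxT with rfl | rfl | rfl
  · simp at hfix; exact h1 hfix.symm
  · simp [Ne.symm h1] at hfix; exact h3 hfix.symm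
  · simp [Ne.symm h2, Ne.symm h3] at hfix; exact h2 hfix

end Cfsg.Agent.Lib.JordanThree
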