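import Cfsg.Agent.Lib.JordanThree.Weights
import Cfsg.Agent.Lib.JordanThree.Perm
import Cfsg.Prelude.Def_Transfer
import Cfsg.Agent.Lib.PGroups.SymplecticType

/-!
# The monomial case
-/

set_option autoImplicit false
set_option synthInstance.maxSize 4096
set_option synthInstance.maxHeartbeats 400000
set_option maxRecDepth 8000
set_option linter.unusedSectionVars false

open scoped commutatorElement

namespace Cfsg.Agent.Lib.JordanThree

variable {H : Type*} [Group H] [Finite H] {W : Type*} [AddCommGroup W] [Module (ZMod 3) W]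
  [Finite W] {ρ : H →* Module.End (ZMod 3) W} {R Q : Subgroup H} {b : H}

local notation "𝕜" => ZMod 3

/-- The conclusion on `R`. -/
def Concl (R : Subgroup H) : Prop :=
  (Cfsg.IsElementaryAbelian 2 R ∧ Nat.card R = 4) ∨
    (Cfsg.IsExtraspecial 2 R ∧ Nat.card R = 32 ∧
      ∃ A : Subgroup H, A ≤ R ∧ Cfsg.IsElementaryAbelian 2 A ∧ Nat.card A = 8)

theorem elemAb_of_sq {A : Subgroup H} (h : ∀ a ∈ A, a * a = 1) : Cfsg.IsElementaryAbelian 2 A := by
  refine ⟨⟨⟨fun a c => Subtype.ext ?_⟩⟩, fun a ha => by rw [pow_two]; exact h a ha⟩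
  have ha := inv_eq_of_mul_eq_one_right (h a a.2)
  have hc := inv_eq_of_mul_eq_one_right (h c c.2)
  have hac := inv_eq_of_mul_eq_one_right (h _ (A.mul_mem a.2 c.2))
  show (a : H) * c = c * a
  rw [← hac, mul_inv_rev, ha, hc]

theorem Setup.b_ne_one (S : Setup ρ R b Q) : b ≠ 1 := fun h => S.sq (by
  rw [h, map_one, sub_self, zero_mul])

/-- Abelian image: every commutator lies in `R`. -/
theorem Setup.commutator_mem (S : Setup ρ R b Q) (g h : H) : g * h * g⁻¹ * h⁻¹ ∈ R := by
  haveI := S.normal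
  have hgen : ∀ x : H, ∃ i : ℤ, (QuotientGroup.mk x : H ⧸ R) = (QuotientGroup.mk b) ^ i := by
    intro x
    have hx : x ∈ R ⊔ Subgroup.zpowers b := S.gen ▸ Subgroup.mem_top x
    obtain ⟨r, hr, c, ⟨i, rfl⟩, rfl⟩ := Subgroup.mem_sup_of_normal_left.1 hx
    exact ⟨i, by rw [QuotientGroup.mk_mul, (QuotientGroup.eq_one_iff r).2 hr, one_mul, QuotientGroup.mk_zpow]⟩
  obtain ⟨i, hi⟩ := hgen g
  obtain ⟨j, hj⟩ := hgen h
  rw [← QuotientGroup.eq_one_iff, QuotientGroup.mk_mul, QuotientGroup.mk_mul, QuotientGroup.mk_mul,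
    QuotientGroup.mk_inv, QuotientGroup.mk_inv, hi, hj]
  group

/-- A hom to a commutative monoid kills `R`. -/
theorem Setup.hom_eq_one (S : Setup ρ R b Q) {M : Type*} [CommMonoid M] (ψ : H →* M) {r : H}
    (hr : r ∈ R) : ψ r = 1 := by
  rw [← S.comm] at hr
  have hle : ⁅R, Subgroup.zpowers b⁆ ≤ ψ.ker := Subgroup.commutator_le.2 fun x _ y _ => by
    rw [MonoidHom.mem_ker, commutatorElement_def, map_mul, map_mul, map_mul]
    calc ψ x * ψ y * ψ x⁻¹ * ψ y⁻¹ = (ψ x * ψ x⁻¹) * (ψ y * ψ y⁻¹) := by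
          simp only [mul_assoc, mul_left_comm (ψ x⁻¹)]
      _ = 1 := by rw [← map_mul, ← map_mul, mul_inv_cancel, mul_inv_cancel, map_one, one_mul]
  exact hle hr

theorem fin_three_fix (c g : Equiv.Perm (Fin 3)) (hc : c ^ 3 = 1) (hc1 : c ≠ 1) (hg : g ^ 8 = 1)
    (hgc : (g * (c * g * c⁻¹)) ^ 8 = 1) : g = 1 := by
  revert c g; decide +kernel

theorem fin_four_v4 (c g : Equiv.Perm (Fin 4)) (hc : c ^ 3 = 1) (hc1 : c ≠ 1) (hg : g ^ 8 = 1)
    (hgc : (g * (c * g * c⁻¹)) ^ 8 = 1) : g * g = 1 ∧ (g = 1 ∨ ∀ i, g i ≠ i) := by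
  revert c g; decide +kernel

theorem fin_four_eq (g h : Equiv.Perm (Fin 4)) (i : Fin 4) (hg : g * g = 1) (hh : h * h = 1)
    (hg' : g = 1 ∨ ∀ j, g j ≠ j) (hh' : h = 1 ∨ ∀ j, h j ≠ j) (he : g i = h i) : g = h := by
  revert g h i; decide +kernel

theorem zmod_three_sign : ∀ t : ZMod 3, t ≠ 0 → t = 1 ∨ t = -1 := by decide

theorem sign_eq : ∀ a b c d : ZMod 3, a * b * c * d = 1 → a * b = c * d := by decide

theorem sign_cube : ∀ s t : ZMod 3, s * t * t * t = 1 → s = t := by decide

variable {A : Subgroup H}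

theorem monomial_concl (S : Setup ρ R b Q) [A.Normal] (hAR : A ≤ R)
    (hab : ∀ a ∈ A, ∀ c ∈ A, a * c = c * a) (M : Monomial ρ A b) : Concl R := by
  classical
  haveI := S.normal
  haveI : Fact (Nat.Prime 3) := ⟨Nat.prime_three⟩
  let Y := {B : Subgroup H // IsHyp ρ A B}
  haveI : Finite Y := inferInstance
  letI : Fintype Y := Fintype.ofFinite Y
  let act : H → Y → Y := fun g B => ⟨B.1.map (MulAut.conj g).toMonoidHom, isHyp_conj B.2 g⟩
  let φ : H →* Equiv.Perm Y :=
    { toFun := fun g => ⟨act g, act g⁻¹, fun B => Subtype.ext (by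
          show (B.1.map _).map _ = _
          rw [map_conj_map, inv_mul_cancel, map_conj_one]), fun B => Subtype.ext (by
          show (B.1.map _).map _ = _
          rw [map_conj_map, mul_inv_cancel, map_conj_one])⟩
      map_one' := Equiv.ext fun B => Subtype.ext (map_conj_one B.1)
      map_mul' := fun g h => Equiv.ext fun B => Subtype.ext (map_conj_map g h B.1).symm }
  have hφ : ∀ g (B : Y), (φ g B).1 = B.1.map (MulAut.conj g).toMonoidHom := fun g B => rfl
  have htr : ∀ x y : Y, ∃ g, φ g x = y := fun x y => by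
    obtain ⟨g, hg⟩ := M.trans x.1 y.1 x.2 y.2
    exact ⟨g, Subtype.ext hg⟩
  obtain ⟨B₀, hB₀, hB₀b, hcyc⟩ := M.cycle
  set p₀ : Y := ⟨B₀, hB₀⟩
  set p₁ : Y := φ b p₀
  set p₂ : Y := φ b p₁
  have hb3 : φ b ^ 3 = 1 := by rw [← map_pow, S.b3, map_one]
  have hb3' : φ b p₂ = p₀ := by
    have := congrArg (fun π : Equiv.Perm Y => π p₀) hb3
    simpa [pow_succ, p₁, p₂] using this
  have h1 : p₀ ≠ p₁ := fun e => hB₀b (congrArg Subtype.val e).symm
  have h3 : p₁ ≠ p₂ := fun e => h1 ((φ b).injective e)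
  have h2 : p₀ ≠ p₂ := fun e => h1 (by
    have := congrArg (φ b) e
    rw [hb3'] at this
    exact this.symm)
  have hbc : φ b = cyc p₀ p₁ p₂ := by
    refine Equiv.ext fun B => ?_
    rw [cyc_apply _ _ _ _ h1 h2 h3]
    split_ifs with e1 e2 e3
    · rw [e1]
    · rw [e2]
    · rw [e3]; exact hb3'
    · by_contra hne
      rcases hcyc B.1 B.2 (fun e => hne (Subtype.ext e)) with h | h | h
      · exact e1 (Subtype.ext h)
      · exact e2 (Subtype.ext h)
      · refine e3 (Subtype.ext (h.trans ?_))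
        show _ = ((B₀.map _).map _)
        rw [map_conj_map]
  have hk4 : Fintype.card Y ≤ 4 := card_le_four φ R b S.cop S.commutator_mem htr h1 h2 h3 hbc
  have hk3 : 3 ≤ Fintype.card Y := by
    rw [← Finset.card_univ, ← (Finset.card_eq_three.2 ⟨p₀, p₁, p₂, h1, h2, h3, rfl⟩ : ({p₀, p₁, p₂} : Finset Y).card = 3)]
    exact Finset.card_le_univ _
  have hc1 : φ b ≠ 1 := fun e => h1 (by simp [p₁, e])
  -- orders of images of elements of `R`
  have hord8 : ∀ r ∈ R, φ r ^ 8 = 1 := by
    intro r hr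
    have hd : orderOf (φ r) ∣ 8 * 3 := by
      refine (orderOf_dvd_natCard (φ r)).trans ?_
      rw [Nat.card_perm, Nat.card_eq_fintype_card]
      rcases (by omega : Fintype.card Y = 3 ∨ Fintype.card Y = 4) with h | h <;>
        rw [h] <;> simp [Nat.factorial]
    refine orderOf_dvd_iff_pow_eq_one.1 (Nat.Coprime.dvd_of_dvd_mul_right ?_ hd)
    exact S.cop.coprime_dvd_left ((orderOf_map_dvd φ r).trans (Subgroup.orderOf_dvd_natCard _ hr))
  -- basis vectors on the lines
  have hne : ∀ B : Y, ∃ e : W, e ∈ fixSp ρ B.1 ∧ e ≠ 0 := fun B =>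
    (Submodule.ne_bot_iff _).1 B.2.2.1
  choose e he he0 using hne
  have hspan1 : ∀ (B : Y) w, w ∈ fixSp ρ B.1 → ∃ t : 𝕜, t • e B = w := fun B w hw => by
    obtain ⟨t, ht⟩ := (finrank_eq_one_iff_of_nonzero' (⟨e B, he B⟩ : fixSp ρ B.1)
      (fun h => he0 B (congrArg Subtype.val h))).1 (M.line B.1 B.2) ⟨w, hw⟩
    exact ⟨t, congrArg Subtype.val ht⟩
  have hcoef : ∀ g (B : Y), ∃ t : 𝕜, t • e (φ g B) = ρ g (e B) := fun g B =>
    hspan1 _ _ (rho_fixSp (fun a ha => mem_map_conj.1 (by rw [← hφ g B]; exact ha)) (he B))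
  choose σ hσ using hcoef
  have hσu : ∀ g B t, t • e (φ g B) = ρ g (e B) → t = σ g B := fun g B t ht => by
    have h := ht.trans (hσ g B).symm
    exact smul_left_injective 𝕜 (he0 _) h
  have hσ0 : ∀ g B, σ g B ≠ 0 := fun g B h => he0 B (by
    have := hσ g B
    rw [h, zero_smul] at this
    rw [← rho_inv_apply (ρ := ρ) g (e B), ← this, map_zero])
  have hσ1 : ∀ B, σ 1 B = 1 := fun B => (hσu 1 B 1 (by simp [map_one])).symm
  have hσmul : ∀ g h B, σ (g * h) B = σ g (φ h B) * σ h B := fun g h B => (hσu _ _ _ (by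
    rw [map_mul, Equiv.Perm.mul_apply, rho_mul_apply, ← hσ h B, map_smul, ← hσ g, smul_smul,
      mul_comm])).symm
  have hext : ∀ x y : H, φ x = φ y → (∀ B, σ x B = σ y B) → x = y := fun x y h1 h2 => S.inj (by
    refine LinearMap.ext fun w => ?_
    have hle : (⊤ : Submodule 𝕜 W) ≤ LinearMap.ker (ρ x - ρ y) := by
      rw [← M.span]
      refine iSup_le fun B w hw => LinearMap.mem_ker.2 ?_
      obtain ⟨t, rfl⟩ := hspan1 B w hw
      rw [LinearMap.sub_apply, map_smul, map_smul, ← hσ x B, ← hσ y B, h1, h2 B, sub_self]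
    have := LinearMap.mem_ker.1 (hle (Submodule.mem_top : w ∈ ⊤))
    rwa [LinearMap.sub_apply, sub_eq_zero] at this)
  have hsgn : ∀ g B, σ g B * σ g B = 1 := fun g B => mul_self_eq_one _ (hσ0 g B)
  have hdiag : ∀ x, φ x = 1 → x * x = 1 := fun x hx => hext _ _ (by rw [map_mul, hx, map_one, one_mul])
    fun B => by rw [hσmul, hx, Equiv.Perm.one_apply, hsgn, hσ1]
  -- the product of the signs
  let ψ : H →* 𝕜 :=
    { toFun := fun g => ∏ B, σ g B
      map_one' := by simp [hσ1]
      map_mul' := fun g h => by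
        simp only [hσmul, Finset.prod_mul_distrib]
        rw [Equiv.prod_comp (φ h) (σ g)] }
  have hψ : ∀ r ∈ R, ∏ B, σ r B = 1 := fun r hr => S.hom_eq_one ψ hr
  have hAker : ∀ a ∈ A, φ a = 1 := fun a ha => Equiv.ext fun B => Subtype.ext (by
    rw [hφ]
    ext x
    rw [mem_map_conj]
    constructor
    · intro h
      have hx : x ∈ A := by
        have := Subgroup.Normal.conj_mem (inferInstance : A.Normal) _ (B.2.1 h) a
        simpa [mul_assoc] using this
      rwa [show a⁻¹ * x * a = x by rw [mul_assoc, hab x hx a ha, ← mul_assoc, inv_mul_cancel, one_mul]] at h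
    · intro h
      rwa [show a⁻¹ * x * a = x by rw [mul_assoc, hab x (B.2.1 h) a ha, ← mul_assoc, inv_mul_cancel, one_mul]])
  rcases (by omega : Fintype.card Y = 3 ∨ Fintype.card Y = 4) with hcard | hcard
  · -- three lines: `R` is the four-group
    left
    let E := Fintype.equivFinOfCardEq hcard
    let T := E.permCongrHom
    have hRfix : ∀ r ∈ R, φ r = 1 := by
      intro r hr
      have hbr : b * r * b⁻¹ ∈ R := Subgroup.Normal.conj_mem S.normal r hr b
      have h8' := hord8 _ (R.mul_mem hr hbr)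
      rw [map_mul, map_mul, map_mul, map_inv] at h8'
      have := fin_three_fix (T (φ b)) (T (φ r)) (by rw [← map_pow, hb3, map_one])
        (fun e => hc1 (T.injective (e.trans (map_one T).symm)))
        (by rw [← map_pow, hord8 r hr, map_one])
        (by rw [← map_inv, ← map_mul, ← map_mul, ← map_mul, ← map_pow, h8', map_one])
      exact T.injective (this.trans (map_one T).symm)
    have hsq : ∀ r ∈ R, r * r = 1 := fun r hr => hdiag r (hRfix r hr)
    refine ⟨elemAb_of_sq hsq, le_antisymm ?_ (S.qcard ▸ Subgroup.card_le_of_le S.qR)⟩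
    refine (Nat.card_le_card_of_injective (β := {t : 𝕜 // t ≠ 0} × {t : 𝕜 // t ≠ 0})
      (fun r : R => (⟨σ r p₀, hσ0 _ _⟩, ⟨σ r p₁, hσ0 _ _⟩)) fun r s hrs => ?_).trans ?_
    · simp only [Prod.mk.injEq, Subtype.mk.injEq] at hrs
      refine Subtype.ext (hext _ _ (by rw [hRfix _ r.2, hRfix _ s.2]) fun B => ?_)
      have hu : (Finset.univ : Finset Y) = {p₀, p₁, p₂} := (Finset.eq_univ_of_card _ (by
        rw [Finset.card_eq_three.2 ⟨p₀, p₁, p₂, h1, h2, h3, rfl⟩, hcard])).symm
      have e1 := hψ r r.2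
      have e2 := hψ s s.2
      rw [hu, Finset.prod_insert (by simp [h1, h2]), Finset.prod_insert (by simp [h3]),
        Finset.prod_singleton] at e1 e2
      have hB : B ∈ ({p₀, p₁, p₂} : Finset Y) := hu ▸ Finset.mem_univ B
      simp only [Finset.mem_insert, Finset.mem_singleton] at hB
      rcases hB with rfl | rfl | rfl
      · exact hrs.1
      · exact hrs.2
      · rw [hrs.1, hrs.2] at e1
        exact mul_left_cancel₀ (hσ0 _ _) (mul_left_cancel₀ (hσ0 _ _) (e1.trans e2.symm))
    · rw [Nat.card_prod, Nat.card_eq_fintype_card]; rfl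
  -- four lines
  right
  obtain ⟨p₃, hp₃⟩ : ∃ p₃ : Y, p₃ ∉ ({p₀, p₁, p₂} : Finset Y) := by
    by_contra hall
    push Not at hall
    have := Finset.card_le_card (fun x _ => hall x : (Finset.univ : Finset Y) ⊆ {p₀, p₁, p₂})
    rw [Finset.card_univ, Finset.card_eq_three.2 ⟨p₀, p₁, p₂, h1, h2, h3, rfl⟩] at this
    omega
  simp only [Finset.mem_insert, Finset.mem_singleton, not_or] at hp₃
  obtain ⟨k0, k1, k2⟩ := hp₃
  have hu : (Finset.univ : Finset Y) = {p₃, p₀, p₁, p₂} := (Finset.eq_univ_of_card _ (by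
    rw [Finset.card_insert_of_notMem (by simp [k0, k1, k2]),
      Finset.card_eq_three.2 ⟨p₀, p₁, p₂, h1, h2, h3, rfl⟩, hcard])).symm
  have hbp₃ : φ b p₃ = p₃ := by rw [hbc, cyc_apply _ _ _ _ h1 h2 h3]; simp [k0, k1, k2]
  let E := Fintype.equivFinOfCardEq hcard
  let T := E.permCongrHom
  have hV : ∀ r ∈ R, φ r * φ r = 1 ∧ (φ r = 1 ∨ ∀ B, φ r B ≠ B) := by
    intro r hr
    have hbr : b * r * b⁻¹ ∈ R := Subgroup.Normal.conj_mem S.normal r hr b
    have h8' := hord8 _ (R.mul_mem hr hbr)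
    rw [map_mul, map_mul, map_mul, map_inv] at h8'
    obtain ⟨e1, e2⟩ := fin_four_v4 (T (φ b)) (T (φ r)) (by rw [← map_pow, hb3, map_one])
      (fun e => hc1 (T.injective (e.trans (map_one T).symm)))
      (by rw [← map_pow, hord8 r hr, map_one])
      (by rw [← map_inv, ← map_mul, ← map_mul, ← map_mul, ← map_pow, h8', map_one])
    refine ⟨T.injective (by rw [map_mul, e1, map_one]), e2.imp (fun e => T.injective (e.trans (map_one T).symm))
      fun h B hB => h (E B) ?_⟩
    show E.permCongr (φ r) (E B) = E B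
    rw [Equiv.permCongr_apply, Equiv.symm_apply_apply, hB]
  have hVeq : ∀ r ∈ R, ∀ s ∈ R, ∀ B, φ r B = φ s B → φ r = φ s := by
    intro r hr s hs B hB
    refine T.injective (fin_four_eq _ _ (E B) (by rw [← map_mul, (hV r hr).1, map_one])
      (by rw [← map_mul, (hV s hs).1, map_one]) ?_ ?_ ?_)
    · rcases (hV r hr).2 with e | e
      · left; rw [e, map_one]
      · right; intro j hj
        apply e (E.symm j)
        have hj' : E.permCongr (φ r) j = j := hj
        rw [Equiv.permCongr_apply] at hj'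
        exact E.injective (hj'.trans (E.apply_symm_apply j).symm)
    · rcases (hV s hs).2 with e | e
      · left; rw [e, map_one]
      · right; intro j hj
        apply e (E.symm j)
        have hj' : E.permCongr (φ s) j = j := hj
        rw [Equiv.permCongr_apply] at hj'
        exact E.injective (hj'.trans (E.apply_symm_apply j).symm)
    · show E.permCongr (φ r) (E B) = E.permCongr (φ s) (E B)
      rw [Equiv.permCongr_apply, Equiv.permCongr_apply, Equiv.symm_apply_apply, hB]
  -- the kernel has order at most eight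
  let D : Subgroup H := R ⊓ φ.ker
  have hAD : A ≤ D := le_inf hAR (fun a ha => hAker a ha)
  have hD8 : Nat.card D ≤ 8 := by
    refine (Nat.card_le_card_of_injective (β := {t : 𝕜 // t ≠ 0} × {t : 𝕜 // t ≠ 0} × {t : 𝕜 // t ≠ 0})
      (fun r : D => (⟨σ r p₀, hσ0 _ _⟩, ⟨σ r p₁, hσ0 _ _⟩, ⟨σ r p₂, hσ0 _ _⟩)) fun r s hrs => ?_).trans ?_
    · simp only [Prod.mk.injEq, Subtype.mk.injEq] at hrs
      refine Subtype.ext (hext _ _ ((MonoidHom.mem_ker.1 r.2.2).trans (MonoidHom.mem_ker.1 s.2.2).symm)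
        fun B => ?_)
      have e1 := hψ r r.2.1
      have e2 := hψ s s.2.1
      rw [hu, Finset.prod_insert (by simp [k0, k1, k2]), Finset.prod_insert (by simp [h1, h2]),
        Finset.prod_insert (by simp [h3]), Finset.prod_singleton] at e1 e2
      have hB : B ∈ ({p₃, p₀, p₁, p₂} : Finset Y) := hu ▸ Finset.mem_univ B
      simp only [Finset.mem_insert, Finset.mem_singleton] at hB
      rcases hB with rfl | rfl | rfl | rfl
      · rw [hrs.1, hrs.2.1, hrs.2.2] at e1
        exact mul_right_cancel₀ (mul_ne_zero (hσ0 _ _) (mul_ne_zero (hσ0 _ _) (hσ0 _ _)))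
          (e1.trans e2.symm)
      · exact hrs.1
      · exact hrs.2.1
      · exact hrs.2.2
    · rw [Nat.card_prod, Nat.card_prod, Nat.card_eq_fintype_card]; rfl
  have hA8 : 8 ≤ Nat.card A := by
    have hA2 : IsPGroup 2 A := fun a => ⟨1, Subtype.ext (by
      rw [pow_one, SubgroupClass.coe_pow, pow_two]; exact M.sq a a.2)⟩
    obtain ⟨n, hn⟩ := IsPGroup.iff_card.1 hA2
    by_contra hlt
    have hn2 : n ≤ 2 := by
      by_contra h
      have := Nat.pow_le_pow_right (show 1 ≤ 2 by norm_num) (show 3 ≤ n by omega)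
      rw [← hn] at this
      omega
    have hle4 : Nat.card A ≤ 4 := by
      rw [hn]; exact (Nat.pow_le_pow_right (by norm_num) hn2).trans_eq rfl
    have hne_bot : ∀ B : Y, B.1 ≠ ⊥ := by
      intro B hB
      obtain ⟨g, hg⟩ := htr B p₀
      have hp0bot : B₀ = ⊥ := by
        have := congrArg Subtype.val hg
        rw [hφ, hB, Subgroup.map_bot] at this
        exact this.symm
      have hp1 : p₁.1 = ⊥ := by rw [show p₁ = φ b p₀ from rfl, hφ]; show B₀.map _ = ⊥; rw [hp0bot, Subgroup.map_bot]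
      exact h1 (Subtype.ext (hp0bot.trans hp1.symm))
    have hne' : ∀ B : Y, ∃ a : A, (a : H) ∈ B.1 ∧ a ≠ 1 := fun B => by
      obtain ⟨⟨a, ha⟩, ha1⟩ := Subgroup.ne_bot_iff_exists_ne_one.1 (hne_bot B)
      exact ⟨⟨a, B.2.1 ha⟩, ha, fun e => ha1 (Subtype.ext (congrArg (fun z : A => (z : H)) e))⟩
    choose a haB ha1 using hne'
    have hinj : Function.Injective (fun B : Y => (⟨a B, ha1 B⟩ : {z : A // z ≠ 1})) := by
      intro B B' h
      have h' : a B = a B' := congrArg Subtype.val h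
      -- both are generated by the common element
      have hgen : ∀ B : Y, B.1 = Subgroup.zpowers (a B : H) := by
        intro B
        refine (Subgroup.eq_of_le_of_card_ge (Subgroup.zpowers_le.2 (haB B)) ?_).symm
        have hlt : Nat.card B.1 < Nat.card A := by
          refine lt_of_le_of_ne (Subgroup.card_le_of_le B.2.1) fun e => B.2.2.1 ?_
          rw [Subgroup.eq_of_le_of_card_ge B.2.1 e.ge]
          refine S.fixSp_normal fun hb => hne_bot B ?_
          exact le_bot_iff.1 (hb ▸ B.2.1)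
        have hd := Subgroup.card_dvd_of_le B.2.1
        have ho : orderOf (a B : H) = 2 := orderOf_eq_prime (by rw [pow_two]; exact M.sq _ (a B).2)
          (fun e => ha1 B (Subtype.ext e))
        rw [Nat.card_zpowers, ho]
        obtain ⟨m, hm⟩ := hd
        rcases m with _ | _ | m
        · simp at hm; exact absurd hm (Nat.card_pos).ne'
        · simp at hm; omega
        · nlinarith
      exact Subtype.ext (by rw [hgen B, hgen B', h'])
    have h5 := Nat.card_le_card_of_injective _ hinj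
    rw [Nat.card_eq_fintype_card, hcard] at h5
    have h6 : Nat.card {z : A // z ≠ 1} < Nat.card A := by
      refine Finite.card_subtype_lt (x := 1) (by simp)
    omega
  have hDA : D = A := (Subgroup.eq_of_le_of_card_ge hAD (hD8.trans hA8)).symm
  have hA8' : Nat.card A = 8 := le_antisymm ((Subgroup.card_le_of_le hAD).trans hD8) hA8
  -- three nontrivial images
  obtain ⟨x, hx, hx1⟩ : ∃ x ∈ R, φ x ≠ 1 := by
    by_contra hall
    push Not at hall
    obtain ⟨g, hg⟩ := htr p₃ p₀
    have hgm : g ∈ R ⊔ Subgroup.zpowers b := S.gen ▸ Subgroup.mem_top g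
    have hle : R ⊔ Subgroup.zpowers b ≤ (MulAction.stabilizer (Equiv.Perm Y) p₃).comap φ := by
      refine sup_le (fun r hr => ?_) (Subgroup.zpowers_le.2 ?_)
      · show φ r • p₃ = p₃
        rw [hall r hr, one_smul]
      · show φ b • p₃ = p₃
        exact hbp₃
    have := hle hgm
    exact k0 (this.symm.trans hg)
  set y := b * x * b⁻¹
  have hy : y ∈ R := Subgroup.Normal.conj_mem S.normal x hx b
  have hq0 : φ x p₃ ≠ p₃ := ((hV x hx).2.resolve_left hx1) p₃
  have hyp : φ y p₃ = φ b (φ x p₃) := by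
    have : φ b⁻¹ p₃ = p₃ := by rw [map_inv, Equiv.Perm.inv_eq_iff_eq, hbp₃]
    show φ (b * x * b⁻¹) p₃ = _
    rw [map_mul, map_mul, Equiv.Perm.mul_apply, Equiv.Perm.mul_apply, this]
  set z' := b * y * b⁻¹
  have hz' : z' ∈ R := Subgroup.Normal.conj_mem S.normal y hy b
  have hzp : φ z' p₃ = φ b (φ b (φ x p₃)) := by
    have : φ b⁻¹ p₃ = p₃ := by rw [map_inv, Equiv.Perm.inv_eq_iff_eq, hbp₃]
    show φ (b * y * b⁻¹) p₃ = _
    rw [map_mul, map_mul, Equiv.Perm.mul_apply, Equiv.Perm.mul_apply, this, hyp]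
  have horbit : φ x p₃ ≠ φ y p₃ ∧ φ y p₃ ≠ φ z' p₃ ∧ φ x p₃ ≠ φ z' p₃ := by
    rw [hyp, hzp]
    have hm : φ x p₃ ∈ ({p₀, p₁, p₂} : Finset Y) := by
      have := hu ▸ Finset.mem_univ (φ x p₃)
      simpa [hq0] using this
    simp only [Finset.mem_insert, Finset.mem_singleton] at hm
    rcases hm with h | h | h <;> rw [h] <;>
      simp [p₁, p₂, hb3', h1, h2, h3, Ne.symm h1, Ne.symm h2, Ne.symm h3]
  have hfour : ∀ r ∈ R, φ r = 1 ∨ φ r = φ x ∨ φ r = φ y ∨ φ r = φ z' := by
    intro r hr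
    have h0 : φ r p₃ = p₃ ∨ φ r p₃ = φ x p₃ ∨ φ r p₃ = φ y p₃ ∨ φ r p₃ = φ z' p₃ := by
      have hyne : φ y p₃ ≠ p₃ := by
        rw [hyp]; intro e; exact hq0 ((φ b).injective (e.trans hbp₃.symm))
      have hzne : φ z' p₃ ≠ p₃ := by
        rw [hzp]; intro e
        exact hq0 ((φ b).injective ((φ b).injective (e.trans (hbp₃.symm.trans (congrArg (φ b) hbp₃.symm)))))
      have hcard4 : ({p₃, φ x p₃, φ y p₃, φ z' p₃} : Finset Y).card = 4 := by
        rw [Finset.card_insert_of_notMem (by simp [Ne.symm hq0, Ne.symm hyne, Ne.symm hzne]),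
          Finset.card_eq_three.2 ⟨_, _, _, horbit.1, horbit.2.2, horbit.2.1, rfl⟩]
      have := (Finset.eq_univ_of_card _ (hcard4.trans hcard.symm)) ▸ Finset.mem_univ (φ r p₃)
      simpa using this
    rcases h0 with h | h | h | h
    · left; exact (hVeq r hr 1 R.one_mem p₃ (by rw [map_one]; exact h)).trans (map_one φ)
    · right; left; exact hVeq r hr x hx p₃ h
    · right; right; left; exact hVeq r hr y hy p₃ h
    · right; right; right; exact hVeq r hr z' hz' p₃ h
  -- the order of `R`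
  have hR32 : Nat.card R = 32 := by
    have hker : Nat.card (φ.comp R.subtype).ker = 8 := by
      rw [← hA8', ← hDA]
      exact Nat.card_congr
        { toFun := fun r => ⟨r.1.1, r.1.2, r.2⟩
          invFun := fun r => ⟨⟨r.1, r.2.1⟩, r.2.2⟩
          left_inv := fun r => rfl
          right_inv := fun r => rfl }
    have hrange : Nat.card (φ.comp R.subtype).range = 4 := by
      refine le_antisymm ?_ ?_
      · have := Nat.card_le_card_of_injective (fun π : (φ.comp R.subtype).range => π.1 p₃) (fun π π' h => by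
          obtain ⟨r, hr⟩ := π.2
          obtain ⟨s, hs⟩ := π'.2
          refine Subtype.ext ?_
          rw [← hr, ← hs]
          exact hVeq r r.2 s s.2 p₃ (by
            have := h
            simp only [← hr, ← hs] at this
            exact this))
        rwa [Nat.card_eq_fintype_card (α := Y), hcard] at this
      · have hyne : φ y p₃ ≠ p₃ := by
          rw [hyp]; intro e; exact hq0 ((φ b).injective (e.trans hbp₃.symm))
        have hzne : φ z' p₃ ≠ p₃ := by
          rw [hzp]; intro e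
          exact hq0 ((φ b).injective ((φ b).injective (e.trans (hbp₃.symm.trans (congrArg (φ b) hbp₃.symm)))))
        have hs : Function.Surjective (fun π : (φ.comp R.subtype).range => π.1 p₃) := by
          intro B
          have hcard4 : ({p₃, φ x p₃, φ y p₃, φ z' p₃} : Finset Y).card = 4 := by
            rw [Finset.card_insert_of_notMem (by simp [Ne.symm hq0, Ne.symm hyne, Ne.symm hzne]),
              Finset.card_eq_three.2 ⟨_, _, _, horbit.1, horbit.2.2, horbit.2.1, rfl⟩]
          have := (Finset.eq_univ_of_card _ (hcard4.trans hcard.symm)) ▸ Finset.mem_univ B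
          simp only [Finset.mem_insert, Finset.mem_singleton] at this
          rcases this with rfl | rfl | rfl | rfl
          · exact ⟨⟨1, one_mem _⟩, rfl⟩
          · exact ⟨⟨φ x, ⟨x, hx⟩, rfl⟩, rfl⟩
          · exact ⟨⟨φ y, ⟨y, hy⟩, rfl⟩, rfl⟩
          · exact ⟨⟨φ z', ⟨z', hz'⟩, rfl⟩, rfl⟩
        have := Nat.card_le_card_of_surjective _ hs
        rwa [Nat.card_eq_fintype_card (α := Y), hcard] at this
    rw [← (φ.comp R.subtype).ker.card_mul_index, Subgroup.index_ker, hker, hrange]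
  -- commutators with `A`, centre
  have hσinv : ∀ g, φ g = 1 → ∀ B, σ g⁻¹ B = σ g B := fun g hg B => by
    rw [inv_eq_of_mul_eq_one_right (hdiag g hg)]
  have hscal : ∀ u ∈ R, φ u = 1 → ∀ t : 𝕜, (∀ B, σ u B = t) → ∀ g : H, g * u = u * g := by
    intro u _ hu1 t ht g
    refine hext _ _ (by rw [map_mul, map_mul, hu1, mul_one, one_mul]) fun B => ?_
    rw [hσmul, hσmul, ht, ht, hu1, Equiv.Perm.one_apply, mul_comm]
  have hrA : ∀ r ∈ R, ∀ a ∈ A, ⁅r, a⁆ ∈ R ∧ ∀ s : H, s * ⁅r, a⁆ = ⁅r, a⁆ * s := by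
    intro r hr a ha
    have hw : ⁅r, a⁆ ∈ A := by
      rw [commutatorElement_def]
      exact A.mul_mem (Subgroup.Normal.conj_mem (inferInstance : A.Normal) a ha r) (A.inv_mem ha)
    refine ⟨hAR hw, hscal _ (hAR hw) (hAker _ hw) (σ ⁅r, a⁆ p₃) fun B => ?_⟩
    have hval : ∀ B, σ ⁅r, a⁆ B = σ a (φ r⁻¹ B) * σ a B := fun B => by
      rw [commutatorElement_def, hσmul, hAker _ (A.inv_mem ha), Equiv.Perm.one_apply,
        hσinv a (hAker a ha)]
      congr 1
      rw [hσmul, hσmul]
      have h1' : σ r (φ r⁻¹ B) * σ r⁻¹ B = 1 := by rw [← hσmul, mul_inv_cancel, hσ1]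
      rw [hAker a ha, Equiv.Perm.one_apply]
      calc σ r (φ r⁻¹ B) * σ a (φ r⁻¹ B) * σ r⁻¹ B = σ a (φ r⁻¹ B) * (σ r (φ r⁻¹ B) * σ r⁻¹ B) := by
            ring
        _ = _ := by rw [h1', mul_one]
    set g := φ r⁻¹ with hg
    rcases (hV r⁻¹ (R.inv_mem hr)).2 with h | h
    · rw [hval, hval, hg, h, Equiv.Perm.one_apply, Equiv.Perm.one_apply, hsgn, hsgn]
    · have hg2 : ∀ B, g (g B) = B := fun B => by
        rw [hg, ← Equiv.Perm.mul_apply, (hV r⁻¹ (R.inv_mem hr)).1, Equiv.Perm.one_apply]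
      rcases eq_or_ne B p₃ with rfl | hB3
      · rfl
      rcases eq_or_ne B (g p₃) with rfl | hBg
      · rw [hval, hval, hg2, mul_comm]
      have hgp : p₃ ≠ g p₃ := fun e => h p₃ e.symm
      have hgB : B ≠ g B := fun e => h B e.symm
      have hne4 : g B ≠ p₃ := fun e => hBg (by rw [← e, hg2])
      have hne5 : g B ≠ g p₃ := fun e => hB3 (g.injective e)
      have hcard4 : ({p₃, g p₃, B, g B} : Finset Y).card = 4 := by
        rw [Finset.card_insert_of_notMem (by simp [hgp, Ne.symm hB3, Ne.symm hne4]),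
          Finset.card_eq_three.2 ⟨g p₃, B, g B, Ne.symm hBg, Ne.symm hne5, hgB, rfl⟩]
      have hp := hψ a (hAR ha)
      rw [← (Finset.eq_univ_of_card _ (hcard4.trans hcard.symm)),
        Finset.prod_insert (by simp [hgp, Ne.symm hB3, Ne.symm hne4]),
        Finset.prod_insert (by simp [Ne.symm hBg, Ne.symm hne5]),
        Finset.prod_insert (by simp [hgB]), Finset.prod_singleton] at hp
      rw [hval, hval]
      exact (sign_eq _ _ _ _ (by linear_combination hp)).symm
  have hcenA : ∀ u : R, u ∈ Subgroup.center R → (u : H) ∈ A ∧ ∀ B, σ u B = σ u p₃ := by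
    intro u hu
    have hfix : φ u = 1 := Equiv.ext fun B => Subtype.ext (by
      rw [hφ]
      ext v
      rw [mem_map_conj]
      constructor
      · intro h
        have hv : v ∈ R := by
          have := R.mul_mem (R.mul_mem u.2 (hAR (B.2.1 h))) (R.inv_mem u.2)
          simpa [mul_assoc] using this
        have hc : v * u = u * v := congrArg Subtype.val (Subgroup.mem_center_iff.1 hu ⟨v, hv⟩)
        rwa [show (u : H)⁻¹ * v * u = v by rw [mul_assoc, hc, ← mul_assoc, inv_mul_cancel, one_mul]] at h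
      · intro h
        have hc : v * u = u * v :=
          congrArg Subtype.val (Subgroup.mem_center_iff.1 hu ⟨v, hAR (B.2.1 h)⟩)
        rwa [show (u : H)⁻¹ * v * u = v by rw [mul_assoc, hc, ← mul_assoc, inv_mul_cancel, one_mul]])
    refine ⟨hDA ▸ ⟨u.2, hfix⟩, fun B => ?_⟩
    have hr : ∃ r ∈ R, φ r p₃ = B := by
      rcases eq_or_ne B p₃ with rfl | hB
      · exact ⟨1, R.one_mem, by rw [map_one]; rfl⟩
      · have hcard4 : ({p₃, φ x p₃, φ y p₃, φ z' p₃} : Finset Y).card = 4 := by
          rw [Finset.card_insert_of_notMem ?_,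
            Finset.card_eq_three.2 ⟨_, _, _, horbit.1, horbit.2.2, horbit.2.1, rfl⟩]
          have hyne : φ y p₃ ≠ p₃ := by
            rw [hyp]; intro e; exact hq0 ((φ b).injective (e.trans hbp₃.symm))
          have hzne : φ z' p₃ ≠ p₃ := by
            rw [hzp]; intro e
            exact hq0 ((φ b).injective ((φ b).injective (e.trans (hbp₃.symm.trans (congrArg (φ b) hbp₃.symm)))))
          simp [Ne.symm hq0, Ne.symm hyne, Ne.symm hzne]
        have := (Finset.eq_univ_of_card _ (hcard4.trans hcard.symm)) ▸ Finset.mem_univ B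
        simp only [Finset.mem_insert, Finset.mem_singleton] at this
        rcases this with h | h | h | h
        · exact absurd h hB
        · exact ⟨x, hx, h.symm⟩
        · exact ⟨y, hy, h.symm⟩
        · exact ⟨z', hz', h.symm⟩
    obtain ⟨r, hr, rfl⟩ := hr
    have hc : r * (u : H) = u * r := congrArg Subtype.val (Subgroup.mem_center_iff.1 hu ⟨r, hr⟩)
    have := congrArg (fun g => σ g p₃) hc
    simp only [hσmul, hfix, Equiv.Perm.one_apply] at this
    exact mul_left_cancel₀ (hσ0 r p₃) ((mul_comm _ _).trans this.symm)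
  have hR2 : IsPGroup 2 R := IsPGroup.of_card (n := 5) hR32
  have hcen2 : Nat.card (Subgroup.center R) = 2 := by
    haveI : Nontrivial R := Finite.one_lt_card_iff_nontrivial.1 (by rw [hR32]; norm_num)
    haveI := hR2.center_nontrivial
    refine le_antisymm ?_ (Finite.one_lt_card_iff_nontrivial.2 inferInstance)
    refine (Nat.card_le_card_of_injective (β := {t : 𝕜 // t ≠ 0})
      (fun u : Subgroup.center R => ⟨σ (u : R) p₃, hσ0 _ _⟩) fun u v huv => ?_).trans
      (by rw [Nat.card_eq_fintype_card]; rfl)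
    have hu' := hcenA _ u.2
    have hv' := hcenA _ v.2
    refine Subtype.ext (Subtype.ext (hext _ _ ((hAker _ hu'.1).trans (hAker _ hv'.1).symm) fun B => ?_))
    rw [hu'.2 B, hv'.2 B]
    exact congrArg Subtype.val huv
  -- the quotient by the centre is elementary abelian
  let π := QuotientGroup.mk' (Subgroup.center R)
  let i : ∀ u, u ∈ R → R := fun u hu => ⟨u, hu⟩
  have hπA : ∀ (a : R), (a : H) ∈ A → ∀ s : R, π a * π s = π s * π a := by
    intro a ha s
    rw [← commutatorElement_eq_one_iff_mul_comm, ← map_commutatorElement, QuotientGroup.mk'_apply,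
      QuotientGroup.eq_one_iff]
    obtain ⟨-, hc⟩ := hrA s s.2 a ha
    rw [← inv_mem_iff, commutatorElement_inv]
    exact Subgroup.mem_center_iff.2 fun t => Subtype.ext (hc t)
  set xR : R := i x hx
  set yR : R := i y hy
  set zR : R := i z' hz'
  have hdecomp : ∀ r : R, ∃ a : R, (a : H) ∈ A ∧ (r = a ∨ r = a * xR ∨ r = a * yR ∨ r = a * zR) := by
    intro r
    rcases hfour r r.2 with h | h | h | h
    · exact ⟨r, hDA ▸ ⟨r.2, h⟩, Or.inl rfl⟩
    · exact ⟨r * xR⁻¹, hDA ▸ ⟨(r * xR⁻¹).2, by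
        show φ ((r : H) * x⁻¹) = 1
        rw [map_mul, map_inv, h, mul_inv_cancel]⟩, Or.inr (Or.inl (by group))⟩
    · exact ⟨r * yR⁻¹, hDA ▸ ⟨(r * yR⁻¹).2, by
        show φ ((r : H) * y⁻¹) = 1
        rw [map_mul, map_inv, h, mul_inv_cancel]⟩, Or.inr (Or.inr (Or.inl (by group)))⟩
    · exact ⟨r * zR⁻¹, hDA ▸ ⟨(r * zR⁻¹).2, by
        show φ ((r : H) * z'⁻¹) = 1
        rw [map_mul, map_inv, h, mul_inv_cancel]⟩, Or.inr (Or.inr (Or.inr (by group)))⟩
  have hzyx : φ z' = φ y * φ x := by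
    rcases hfour (y * x) (R.mul_mem hy hx) with h | h | h | h <;> rw [map_mul] at h
    · exfalso
      have hxy : φ y = φ x := by
        rw [← mul_one (φ y), ← (hV x hx).1, ← mul_assoc, h, one_mul]
      exact horbit.1 (by rw [hxy])
    · exfalso
      have hy1 : φ y = 1 := mul_right_cancel (h.trans (one_mul _).symm)
      exact hq0 ((φ b).injective ((by rw [← hyp, hy1]; rfl : φ b (φ x p₃) = p₃).trans hbp₃.symm))
    · exact absurd (mul_left_cancel (h.trans (mul_one _).symm)) hx1
    · exact h.symm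
  obtain ⟨a₀, ha₀, hza⟩ : ∃ a : R, (a : H) ∈ A ∧ zR = a * (yR * xR) :=
    ⟨zR * (yR * xR)⁻¹, hDA ▸ ⟨(zR * (yR * xR)⁻¹).2, by
      show φ (z' * (y * x)⁻¹) = 1
      rw [map_mul φ z' (y * x)⁻¹, map_inv φ (y * x), map_mul φ y x, hzyx, mul_inv_cancel]⟩, by group⟩
  set w : R := ⁅xR, yR⁆
  have hwA : (w : H) ∈ A := hDA ▸ ⟨w.2, by
    show φ (⁅x, y⁆) = 1
    rw [map_commutatorElement, commutatorElement_eq_one_iff_mul_comm]
    have hxy := (hV (x * y) (R.mul_mem hx hy)).1
    rw [map_mul] at hxy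
    calc φ x * φ y = φ x * φ y * ((φ y * φ x) * (φ y * φ x)) := by
          rw [← map_mul φ y x, (hV (y * x) (R.mul_mem hy hx)).1, mul_one]
      _ = (φ x * (φ y * φ y) * φ x) * (φ y * φ x) := by simp only [mul_assoc]
      _ = φ y * φ x := by rw [(hV y hy).1, mul_one, (hV x hx).1, one_mul]⟩
  set w' : R := ⁅yR, zR⁆
  have hwinv : π w⁻¹ = π w := by rw [inv_eq_of_mul_eq_one_right (Subtype.ext (M.sq _ hwA))]
  have hπw : π w' = π w := by
    rw [← hwinv, show w' = ⁅yR, zR⁆ from rfl, hza, map_commutatorElement, map_mul, map_mul,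
      show w⁻¹ = ⁅yR, xR⁆ from commutatorElement_inv _ _, map_commutatorElement]
    have hc := hπA a₀ ha₀
    simp only [commutatorElement_def, mul_inv_rev]
    calc π yR * (π a₀ * (π yR * π xR)) * (π yR)⁻¹ * ((π xR)⁻¹ * (π yR)⁻¹ * (π a₀)⁻¹)
        = (π yR * π a₀) * (π yR * π xR * (π yR)⁻¹ * (π xR)⁻¹ * (π yR)⁻¹) * (π a₀)⁻¹ := by
          simp only [mul_assoc]
      _ = (π a₀ * π yR) * (π yR * π xR * (π yR)⁻¹ * (π xR)⁻¹ * (π yR)⁻¹) * (π a₀)⁻¹ := by rw [hc yR]
      _ = π a₀ * (π yR * (π (yR * xR * yR⁻¹ * xR⁻¹)) * (π yR)⁻¹) * (π a₀)⁻¹ := by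
          simp only [map_mul, map_inv, mul_assoc]
      _ = π a₀ * π (yR * xR * yR⁻¹ * xR⁻¹) * (π a₀)⁻¹ := by
          have hwA' : ((yR * xR * yR⁻¹ * xR⁻¹ : R) : H) ∈ A := by
            rw [show yR * xR * yR⁻¹ * xR⁻¹ = w⁻¹ from (commutatorElement_inv xR yR).symm]
            exact A.inv_mem hwA
          rw [← hπA _ hwA' yR, mul_inv_cancel_right]
      _ = π (yR * xR * yR⁻¹ * xR⁻¹) := by rw [hc, mul_inv_cancel_right]
      _ = _ := by simp only [map_mul, map_inv]
  have hwc : w ∈ Subgroup.center R := by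
    have hd : (w' * w⁻¹ : R) ∈ Subgroup.center R := by
      rw [← QuotientGroup.eq_one_iff]
      show π (w' * w⁻¹) = 1
      rw [map_mul, map_inv, hπw, mul_inv_cancel]
    have hw'A : (w' : H) ∈ A := by
      have : (w' : H) = b * (w : H) * b⁻¹ := by
        show ⁅y, z'⁆ = b * ⁅x, y⁆ * b⁻¹
        simp [y, z', commutatorElement_def, mul_assoc]
      rw [this]
      exact Subgroup.Normal.conj_mem (inferInstance : A.Normal) _ hwA b
    set ε := σ ((w' * w⁻¹ : R) : H) p₃
    have hrel : ∀ B, σ w' B = ε * σ w B := fun B => by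
      have h := (hcenA _ hd).2 B
      show _ = σ ((w' * w⁻¹ : R) : H) p₃ * σ w B
      rw [← h]
      show σ w' B = σ ((w' : H) * (w : H)⁻¹) B * σ w B
      rw [hσmul, hAker _ (A.inv_mem hwA), Equiv.Perm.one_apply, hσinv _ (hAker _ hwA), mul_assoc, hsgn,
        mul_one]
    have hshift : ∀ B, σ w' (φ b B) = σ w B := fun B => by
      have e : (w' : H) * b = b * (w : H) := by
        show ⁅y, z'⁆ * b = b * ⁅x, y⁆
        simp [y, z', commutatorElement_def, mul_assoc]
      have := congrArg (fun g => σ g B) e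
      simp only [hσmul, hAker _ hwA, Equiv.Perm.one_apply] at this
      exact mul_right_cancel₀ (hσ0 b B) (this.trans (mul_comm _ _))
    have hε : ε = 1 := by
      have := hshift p₃
      rw [hbp₃, hrel] at this
      exact mul_right_cancel₀ (hσ0 (w : H) p₃) (this.trans (one_mul (σ (w : H) p₃)).symm)
    have e01 : σ w p₁ = σ w p₀ := by
      have := hshift p₀; rwa [hrel, hε, one_mul] at this
    have e12 : σ w p₂ = σ w p₁ := by
      have := hshift p₁; rwa [hrel, hε, one_mul] at this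
    have hp := hψ w w.2
    rw [hu, Finset.prod_insert (by simp [k0, k1, k2]), Finset.prod_insert (by simp [h1, h2]),
      Finset.prod_insert (by simp [h3]), Finset.prod_singleton, e12, e01] at hp
    have h30 : σ w p₃ = σ w p₀ := sign_cube _ _ (by linear_combination hp)
    refine Subgroup.mem_center_iff.2 fun t => Subtype.ext (hscal _ w.2 (hAker _ hwA) (σ w p₀) (fun B => ?_) t)
    have hB : B ∈ ({p₃, p₀, p₁, p₂} : Finset Y) := hu ▸ Finset.mem_univ B
    simp only [Finset.mem_insert, Finset.mem_singleton] at hB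
    rcases hB with rfl | rfl | rfl | rfl
    · exact h30
    · rfl
    · exact e01
    · exact e12.trans e01
  have hxy : π xR * π yR = π yR * π xR := by
    rw [← commutatorElement_eq_one_iff_mul_comm, ← map_commutatorElement, QuotientGroup.mk'_apply,
      QuotientGroup.eq_one_iff]
    show w ∈ Subgroup.center R
    exact hwc
  have hcomm : ∀ r s : R, π r * π s = π s * π r := by
    have hx' : ∀ s : R, Commute (π xR) (π s) := by
      intro s
      obtain ⟨a, ha, h⟩ := hdecomp s
      have ca : Commute (π xR) (π a) := (hπA a ha xR).symm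
      rcases h with rfl | rfl | rfl | rfl
      · exact ca
      · rw [map_mul]; exact ca.mul_right rfl
      · rw [map_mul]; exact ca.mul_right hxy
      · rw [map_mul, hza, map_mul, map_mul]
        exact ca.mul_right ((show Commute (π xR) (π a₀) from (hπA a₀ ha₀ xR).symm).mul_right ((show Commute (π xR) (π yR) from hxy).mul_right rfl))
    have hy' : ∀ s : R, Commute (π yR) (π s) := by
      intro s
      obtain ⟨a, ha, h⟩ := hdecomp s
      have ca : Commute (π yR) (π a) := (hπA a ha yR).symm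
      rcases h with rfl | rfl | rfl | rfl
      · exact ca
      · rw [map_mul]; exact ca.mul_right (show Commute (π xR) (π yR) from hxy).symm
      · rw [map_mul]; exact ca.mul_right rfl
      · rw [map_mul, hza, map_mul, map_mul]
        exact ca.mul_right (Commute.mul_right (hπA a₀ ha₀ yR).symm
          (Commute.mul_right rfl (show Commute (π xR) (π yR) from hxy).symm))
    intro r s
    obtain ⟨a, ha, h⟩ := hdecomp r
    have ca : Commute (π a) (π s) := hπA a ha s
    rcases h with rfl | rfl | rfl | rfl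
    · exact ca
    · rw [map_mul]; exact (ca.mul_left (hx' s)).eq
    · rw [map_mul]; exact (ca.mul_left (hy' s)).eq
    · rw [map_mul π a, hza, map_mul, map_mul]
      exact (ca.mul_left (Commute.mul_left (hπA a₀ ha₀ s) (Commute.mul_left (hy' s) (hx' s)))).eq
  haveI : Fact (Nat.Prime 2) := ⟨Nat.prime_two⟩
  have hcomc : ∀ r s : R, ⁅r, s⁆ ∈ Subgroup.center R := fun r s => by
    rw [← QuotientGroup.eq_one_iff]
    show π ⁅r, s⁆ = 1
    rw [map_commutatorElement, commutatorElement_eq_one_iff_mul_comm]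
    exact hcomm r s
  refine ⟨Cfsg.Agent.Lib.PGroups.SymplecticType.isExtraspecial_of hR2 (fun h => ?_) hcen2 ?_ fun r => ?_, hR32,
    A, hAR, elemAb_of_sq M.sq, hA8'⟩
  · have htop : Subgroup.center R = ⊤ :=
      (Subgroup.eq_top_iff' _).2 fun r => Subgroup.mem_center_iff.2 fun s => h.1.comm s r
    rw [htop, Subgroup.card_top, hR32] at hcen2
    norm_num at hcen2
  · rw [commutator_def, Subgroup.commutator_le]
    exact fun r _ s _ => hcomc r s
  · refine Subgroup.mem_center_iff.2 fun s => ?_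
    have hc := hcomc r s
    have hcA := hcenA _ hc
    have hc2 : ⁅r, s⁆ * ⁅r, s⁆ = 1 := Subtype.ext (M.sq _ hcA.1)
    have e : ⁅r ^ 2, s⁆ = 1 := by
      rw [pow_two, show ⁅r * r, s⁆ = r * ⁅r, s⁆ * r⁻¹ * ⁅r, s⁆ by
        simp only [commutatorElement_def]; group, Subgroup.mem_center_iff.1 hc r, mul_inv_cancel_right, hc2]
    exact (commutatorElement_eq_one_iff_mul_comm.1 e).symm

end Cfsg.Agent.Lib.JordanThree
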