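import Cfsg.Agent.Lib.JordanThree.Commutant

/-!
# Normal elementary abelian subgroups under a map with `rank (b - 1) ≤ 2`
-/

set_option autoImplicit false
set_option linter.unusedSectionVars false

namespace Cfsg.Agent.Lib.JordanThree

variable {H : Type*} [Group H] [Finite H] {W : Type*} [AddCommGroup W] [Module (ZMod 3) W]
  [Finite W]

local notation "𝕜" => ZMod 3

/-- The standing hypotheses. -/
structure Setup (ρ : H →* Module.End (ZMod 3) W) (R : Subgroup H) (b : H) (Q : Subgroup H) :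
    Prop where
  inj : Function.Injective ρ
  irr : ∀ N : Submodule (ZMod 3) W, (∀ g, ∀ w ∈ N, ρ g w ∈ N) → N = ⊥ ∨ N = ⊤
  normal : R.Normal
  solv : Group.IsSolvable R
  cop : (Nat.card R).Coprime 3
  b3 : b ^ 3 = 1
  gen : R ⊔ Subgroup.zpowers b = ⊤
  comm : ⁅R, Subgroup.zpowers b⁆ = R
  rk : Module.finrank (ZMod 3) (LinearMap.range (ρ b - 1)) ≤ 2
  sq : (ρ b - 1) * (ρ b - 1) ≠ 0
  qR : Q ≤ R
  qcard : Nat.card Q = 4
  qsq : ∀ q ∈ Q, q * q = 1
  qb : ∀ q ∈ Q, b * q * b⁻¹ ∈ Q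
  qfix : ∀ q ∈ Q, b * q = q * b → q = 1

variable {ρ : H →* Module.End (ZMod 3) W} {R Q : Subgroup H} {b : H}

/-- The fixed space of a subgroup. -/
def fixSp (ρ : H →* Module.End (ZMod 3) W) (B : Subgroup H) : Submodule 𝕜 W where
  carrier := {w | ∀ a ∈ B, ρ a w = w}
  zero_mem' := fun a _ => map_zero _
  add_mem' := fun {u v} hu hv a ha => by rw [map_add, hu a ha, hv a ha]
  smul_mem' := fun c u hu a ha => by rw [map_smul, hu a ha]

theorem mem_fixSp {B : Subgroup H} {w : W} : w ∈ fixSp ρ B ↔ ∀ a ∈ B, ρ a w = w := Iff.rfl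

theorem rho_mul_apply (g h : H) (w : W) : ρ (g * h) w = ρ g (ρ h w) := by rw [map_mul]; rfl

theorem rho_inv_apply (g : H) (w : W) : ρ g⁻¹ (ρ g w) = w := by
  rw [← rho_mul_apply, inv_mul_cancel, map_one]; rfl

theorem rho_apply_inv (g : H) (w : W) : ρ g (ρ g⁻¹ w) = w := by
  rw [← rho_mul_apply, mul_inv_cancel, map_one]; rfl

theorem rho_fixSp {B B' : Subgroup H} {g : H} (h : ∀ a ∈ B', g⁻¹ * a * g ∈ B) {w : W}
    (hw : w ∈ fixSp ρ B) : ρ g w ∈ fixSp ρ B' := fun a ha => by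
  rw [← rho_mul_apply, show a * g = g * (g⁻¹ * a * g) by group, rho_mul_apply, hw _ (h a ha)]

theorem Setup.eq_top_of_mem (S : Setup ρ R b Q) {K : Subgroup H} [K.Normal] (hb : b ∈ K) :
    K = ⊤ := by
  have hR : R ≤ K := by
    rw [← S.comm]
    refine Subgroup.commutator_le.2 fun r _ c hc => ?_
    have hcK : c ∈ K := (Subgroup.zpowers_le.2 hb) hc
    rw [commutatorElement_def]
    exact K.mul_mem (Subgroup.Normal.conj_mem inferInstance c hcK r) (K.inv_mem hcK)
  exact top_le_iff.1 (S.gen ▸ sup_le hR (Subgroup.zpowers_le.2 hb))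

theorem Setup.b_not_mem (S : Setup ρ R b Q) (hb1 : b ≠ 1) : b ∉ R := fun h => hb1 (by
  have h1 : orderOf b ∣ 3 := orderOf_dvd_of_pow_eq_one S.b3
  have h2 : orderOf b ∣ Nat.card R := Subgroup.orderOf_dvd_natCard _ h
  exact orderOf_eq_one_iff.1 (Nat.eq_one_of_dvd_coprimes S.cop h2 h1))

theorem Setup.eq_one_of_fix (S : Setup ρ R b Q) {a : H} (h : ∀ w, ρ a w = w) : a = 1 :=
  (injective_iff_map_eq_one ρ).1 S.inj a (LinearMap.ext h)

/-- A nontrivial normal subgroup fixes no vector. -/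
theorem Setup.fixSp_normal (S : Setup ρ R b Q) {N : Subgroup H} [N.Normal] (hN : N ≠ ⊥) :
    fixSp ρ N = ⊥ := by
  refine (S.irr _ fun g w hw => rho_fixSp (fun a ha => ?_) hw).resolve_right fun h => ?_
  · simpa using Subgroup.Normal.conj_mem (inferInstance : N.Normal) a ha g⁻¹
  · refine hN ((Subgroup.eq_bot_iff_forall _).2 fun a ha => S.eq_one_of_fix fun w => ?_)
    exact (h ▸ Submodule.mem_top : w ∈ fixSp ρ N) a ha

/-- A maximal subgroup of `A` with a fixed vector. -/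
def IsHyp (ρ : H →* Module.End (ZMod 3) W) (A B : Subgroup H) : Prop :=
  B ≤ A ∧ fixSp ρ B ≠ ⊥ ∧ ∀ x ∈ A, x ∉ B → A ≤ B ⊔ Subgroup.zpowers x

/-- Weight data of a normal elementary abelian `r`-subgroup: lines permuted by the group, `b`
moving exactly three of them. -/
structure Monomial (ρ : H →* Module.End (ZMod 3) W) (A : Subgroup H) (b : H) : Prop where
  sq : ∀ a ∈ A, a * a = 1
  line : ∀ B, IsHyp ρ A B → Module.finrank 𝕜 (fixSp ρ B) = 1
  span : ⨆ B : {B // IsHyp ρ A B}, fixSp ρ B.1 = ⊤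
  indep : ∀ B, IsHyp ρ A B → ∀ u ∈ fixSp ρ B, u ≠ 0 →
    u ∉ ⨆ B' : {B' // IsHyp ρ A B' ∧ B' ≠ B}, fixSp ρ B'.1
  trans : ∀ B B', IsHyp ρ A B → IsHyp ρ A B' → ∃ g : H, B.map (MulAut.conj g).toMonoidHom = B'
  cycle : ∃ B₀, IsHyp ρ A B₀ ∧ B₀.map (MulAut.conj b).toMonoidHom ≠ B₀ ∧
    ∀ B, IsHyp ρ A B → B.map (MulAut.conj b).toMonoidHom ≠ B →
      B = B₀ ∨ B = B₀.map (MulAut.conj b).toMonoidHom ∨
        B = B₀.map (MulAut.conj (b * b)).toMonoidHom

theorem map_conj_map (g h : H) (B : Subgroup H) :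
    (B.map (MulAut.conj h).toMonoidHom).map (MulAut.conj g).toMonoidHom =
      B.map (MulAut.conj (g * h)).toMonoidHom := by
  rw [Subgroup.map_map]; congr 1; ext x; simp [mul_assoc]

theorem map_conj_one (B : Subgroup H) : B.map (MulAut.conj (1 : H)).toMonoidHom = B := by
  ext x; simp

theorem mem_map_conj {g a : H} {B : Subgroup H} :
    a ∈ B.map (MulAut.conj g).toMonoidHom ↔ g⁻¹ * a * g ∈ B := by
  constructor
  · rintro ⟨c, hc, rfl⟩
    simpa [mul_assoc] using hc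
  · intro h
    exact ⟨g⁻¹ * a * g, h, by simp [mul_assoc]⟩

variable {A : Subgroup H}

theorem isHyp_conj [A.Normal] {B : Subgroup H} (hB : IsHyp ρ A B) (g : H) :
    IsHyp ρ A (B.map (MulAut.conj g).toMonoidHom) := by
  obtain ⟨hBA, hne, hmax⟩ := hB
  have hconj : ∀ a ∈ A, g⁻¹ * a * g ∈ A := fun a ha => by
    simpa using Subgroup.Normal.conj_mem (inferInstance : A.Normal) a ha g⁻¹
  refine ⟨?_, fun h => hne ?_, fun x hx hxB => ?_⟩
  · rintro _ ⟨c, hc, rfl⟩
    exact Subgroup.Normal.conj_mem (inferInstance : A.Normal) c (hBA hc) g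
  · refine (Submodule.eq_bot_iff _).2 fun w hw => ?_
    have : ρ g w ∈ fixSp ρ (B.map (MulAut.conj g).toMonoidHom) :=
      rho_fixSp (fun a ha => mem_map_conj.1 ha) hw
    rw [h, Submodule.mem_bot] at this
    rw [← rho_inv_apply (ρ := ρ) g w, this, map_zero]
  · intro a ha
    have h1 := hmax _ (hconj x hx) (fun h => hxB (mem_map_conj.2 h)) (hconj a ha)
    have h2 : Subgroup.map (MulAut.conj g).toMonoidHom (B ⊔ Subgroup.zpowers (g⁻¹ * x * g)) =
        B.map (MulAut.conj g).toMonoidHom ⊔ Subgroup.zpowers x := by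
      rw [Subgroup.map_sup, MonoidHom.map_zpowers]
      simp [mul_assoc]
    rw [← h2]
    exact mem_map_conj.2 h1

theorem avg_mem_fixSp [Fintype A] (u : W) : (∑ a : A, ρ (a : H) u) ∈ fixSp ρ A := by
  intro c hc
  rw [map_sum]
  refine Fintype.sum_equiv (Equiv.mulLeft ⟨c, hc⟩) _ _ fun a => ?_
  show ρ c (ρ (a : H) u) = ρ (c * (a : H)) u
  rw [rho_mul_apply]

theorem sum_pow_mem (x : H) {r : ℕ} (hr : 0 < r) (hx : x ^ r = 1) (u : W) :
    (∑ i ∈ Finset.range r, ρ (x ^ i) u) ∈ fixSp ρ (Subgroup.zpowers x) := by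
  intro c hc
  obtain ⟨n, rfl⟩ := (isOfFinOrder_of_finite x).mem_powers_iff_mem_zpowers.2 hc
  show ρ (x ^ n) _ = _
  induction n with
  | zero => rw [pow_zero, map_one]; rfl
  | succ n ih =>
    rw [pow_succ', rho_mul_apply, ih ⟨(n : ℤ), by simp⟩, map_sum]
    have h1 : ∀ i, ρ x (ρ (x ^ i) u) = ρ (x ^ (i + 1)) u := fun i => by
      rw [← rho_mul_apply, ← pow_succ']
    simp only [h1]
    obtain ⟨r', rfl⟩ : ∃ r', r = r' + 1 := ⟨r - 1, by omega⟩
    conv_rhs => rw [Finset.sum_range_succ']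
    rw [Finset.sum_range_succ, pow_zero, hx, map_one]

variable {r : ℕ}

/-- Every subgroup with a fixed vector lies in a maximal one. -/
theorem exists_hyp (S : Setup ρ R b Q) [A.Normal] (hA : A ≠ ⊥) (hr : r.Prime) (hr3 : r ≠ 3)
    (hab : ∀ a ∈ A, ∀ c ∈ A, a * c = c * a) (hexp : ∀ a ∈ A, a ^ r = 1) (hW : (⊤ : Submodule 𝕜 W) ≠ ⊥) :
    ∃ B, IsHyp ρ A B := by
  classical
  haveI : Nonempty {B : Subgroup H // B ≤ A ∧ fixSp ρ B ≠ ⊥} := ⟨⟨⊥, bot_le, fun h => hW (by
    rw [← h, eq_comm, Submodule.eq_top_iff']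
    intro w a ha
    rw [Subgroup.mem_bot.1 ha, map_one]; rfl)⟩⟩
  obtain ⟨⟨B, hBA, hB⟩, hmax⟩ := Finite.exists_max
    (fun B : {B : Subgroup H // B ≤ A ∧ fixSp ρ B ≠ ⊥} => Nat.card B.1)
  refine ⟨B, hBA, hB, fun x hxA hxB y hyA => ?_⟩
  by_contra hy
  have hzero : ∀ c ∈ A, c ∉ B → ∀ u ∈ fixSp ρ B, ∑ i ∈ Finset.range r, ρ (c ^ i) u = 0 := by
    intro c hcA hcB u hu
    by_contra hne
    have h1 : B ⊔ Subgroup.zpowers c ≤ A := sup_le hBA (Subgroup.zpowers_le.2 hcA)
    have h2 : fixSp ρ (B ⊔ Subgroup.zpowers c) ≠ ⊥ := fun h => hne (by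
      rw [← Submodule.mem_bot (R := 𝕜), ← h]
      intro a ha
      rw [Subgroup.sup_eq_closure] at ha
      induction ha using Subgroup.closure_induction with
      | mem z hz =>
        rcases hz with hz | hz
        · rw [map_sum]
          refine Finset.sum_congr rfl fun i _ => ?_
          rw [← rho_mul_apply, hab z (hBA hz) _ (pow_mem hcA i), rho_mul_apply, hu z hz]
        · exact sum_pow_mem c hr.pos (hexp c hcA) u z hz
      | one => rw [map_one]; rfl
      | mul p q _ _ hp hq => rw [rho_mul_apply, hq, hp]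
      | inv p _ hp => conv_lhs => rw [← hp, rho_inv_apply])
    have h3 : Nat.card B < Nat.card (B ⊔ Subgroup.zpowers c : Subgroup H) := by
      refine lt_of_le_of_ne (Subgroup.card_le_of_le le_sup_left) fun e => hcB ?_
      have := Subgroup.eq_of_le_of_card_ge (le_sup_left : B ≤ B ⊔ Subgroup.zpowers c) e.ge
      rw [this]
      exact Subgroup.mem_sup_right (Subgroup.mem_zpowers c)
    exact absurd (hmax ⟨_, h1, h2⟩) (not_le_of_gt h3)
  obtain ⟨u, hu, hu0⟩ := (Submodule.ne_bot_iff _).1 hB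
  -- the `r` subgroups generated by `x y ^ j` together exhaust the group generated by `x`, `y`
  have hne : ∀ i, i ∈ Finset.range r → i ≠ 0 → ∀ j, x ^ i * y ^ j ∉ B := by
    intro i hi hi0 j hmem
    rcases Nat.eq_zero_or_pos (j % r) with hj | hj
    · have hy1 : y ^ j = 1 := by rw [← Nat.div_add_mod j r, hj, add_zero, pow_mul, hexp y hyA, one_pow]
      rw [hy1, mul_one] at hmem
      have hcop : i.Coprime (orderOf x) := Nat.Coprime.coprime_dvd_right
        (orderOf_dvd_of_pow_eq_one (hexp x hxA))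
        (Nat.Coprime.symm (hr.coprime_iff_not_dvd.2 fun hd =>
          absurd (Nat.le_of_dvd (Nat.pos_of_ne_zero hi0) hd) (not_le.2 (Finset.mem_range.1 hi))))
      obtain ⟨m, hm⟩ := exists_pow_eq_self_of_coprime hcop
      exact hxB (hm ▸ pow_mem hmem m)
    · have hcop : j.Coprime (orderOf y) := Nat.Coprime.coprime_dvd_right
        (orderOf_dvd_of_pow_eq_one (hexp y hyA))
        (Nat.Coprime.symm (hr.coprime_iff_not_dvd.2 fun hd =>
          absurd hj (by rw [Nat.mod_eq_zero_of_dvd hd]; exact lt_irrefl 0)))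
      obtain ⟨m, hm⟩ := exists_pow_eq_self_of_coprime hcop
      apply hy
      have hyj : y ^ j ∈ B ⊔ Subgroup.zpowers x := by
        rw [show y ^ j = (x ^ i)⁻¹ * (x ^ i * y ^ j) by group]
        exact Subgroup.mul_mem _ (Subgroup.inv_mem _ (Subgroup.mem_sup_right
          (pow_mem (Subgroup.mem_zpowers x) i))) (Subgroup.mem_sup_left hmem)
      exact hm ▸ pow_mem hyj m
  have h1 : ∑ j ∈ Finset.range r, ∑ i ∈ Finset.range r, ρ ((x * y ^ j) ^ i) u = 0 := by
    refine Finset.sum_eq_zero fun j _ => hzero _ (A.mul_mem hxA (pow_mem hyA j)) ?_ u hu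
    have := hne 1 (Finset.mem_range.2 hr.one_lt) one_ne_zero j
    rwa [pow_one] at this
  rw [Finset.sum_comm, Finset.sum_eq_single 0] at h1
  · simp only [pow_zero, map_one, Module.End.one_apply, Finset.sum_const, Finset.card_range] at h1
    refine hu0 ?_
    rw [← Nat.cast_smul_eq_nsmul 𝕜] at h1
    refine (smul_eq_zero.1 h1).resolve_left fun h => hr3 ?_
    exact ((Nat.prime_dvd_prime_iff_eq Nat.prime_three hr).1 ((ZMod.natCast_eq_zero_iff r 3).1 h)).symm
  · intro i hi hi0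
    have e : ∀ j, (x * y ^ j) ^ i = x ^ i * (y ^ i) ^ j := fun j => by
      rw [Commute.mul_pow (hab x hxA _ (pow_mem hyA j)), ← pow_mul, ← pow_mul, mul_comm]
    simp only [e, rho_mul_apply]
    rw [← map_sum, hzero _ (pow_mem hyA i) (fun h => ?_) u hu, map_zero]
    have hcop : i.Coprime (orderOf y) := Nat.Coprime.coprime_dvd_right
      (orderOf_dvd_of_pow_eq_one (hexp y hyA))
      (Nat.Coprime.symm (hr.coprime_iff_not_dvd.2 fun hd =>
        absurd (Nat.le_of_dvd (Nat.pos_of_ne_zero hi0) hd) (not_le.2 (Finset.mem_range.1 hi))))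
    obtain ⟨m, hm⟩ := exists_pow_eq_self_of_coprime hcop
    exact hy (Subgroup.mem_sup_left (hm ▸ pow_mem h m))
  · exact fun h => absurd (Finset.mem_range.2 hr.pos) h

open scoped Classical in
/-- The projection attached to a maximal subgroup. -/
theorem sep (S : Setup ρ R b Q) [A.Normal] (hA : A ≠ ⊥) (hAR : A ≤ R)
    (hab : ∀ a ∈ A, ∀ c ∈ A, a * c = c * a) {B : Subgroup H} (hB : IsHyp ρ A B) :
    ∃ e : Module.End 𝕜 W, (∀ u ∈ fixSp ρ B, e u = (Nat.card B : 𝕜) • u) ∧ (Nat.card B : 𝕜) ≠ 0 ∧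
      ∀ B', IsHyp ρ A B' → B' ≠ B → ∀ u ∈ fixSp ρ B', e u = 0 := by
  haveI : Fintype B := Fintype.ofFinite _
  refine ⟨∑ a : B, ρ (a : H), fun u hu => ?_, fun h => ?_, fun B' hB' hne u hu => ?_⟩
  · rw [LinearMap.sum_apply, Finset.sum_congr rfl fun (a : B) _ => hu (a : H) a.2]
    simp [Nat.cast_smul_eq_nsmul, Nat.card_eq_fintype_card]
  · have h1 := (ZMod.natCast_eq_zero_iff _ 3).1 h
    have h2 := h1.trans (Subgroup.card_dvd_of_le (hB.1.trans hAR))
    exact absurd (Nat.eq_one_of_dvd_coprimes S.cop h2 dvd_rfl) (by norm_num)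
  · rw [LinearMap.sum_apply]
    have h0 : fixSp ρ A = ⊥ := S.fixSp_normal hA
    rw [← Submodule.mem_bot (R := 𝕜), ← h0]
    obtain ⟨x, hxB, hxB'⟩ : ∃ x ∈ B, x ∉ B' := by
      by_contra hle
      push Not at hle
      obtain ⟨y, hyB', hyB⟩ : ∃ y ∈ B', y ∉ B := by
        by_contra hle'
        push Not at hle'
        exact hne (le_antisymm hle' hle)
      -- then `B ≤ B'` and `A = B ⊔ ⟨y⟩ ≤ B'`, so `A` fixes a vector
      have : A ≤ B' := (hB.2.2 y (hB'.1 hyB') hyB).trans (sup_le hle (Subgroup.zpowers_le.2 hyB'))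
      exact hB'.2.1 (eq_bot_iff.2 (le_of_le_of_eq (b := fixSp ρ A) (fun w hw a ha => hw a (this ha)) h0))
    intro c hc
    have hcA := hB'.2.2 x (hB.1 hxB) hxB' hc
    rw [Subgroup.sup_eq_closure] at hcA
    have hAB : ∀ z, z ∈ B → ρ z (∑ a : B, ρ (a : H) u) = ∑ a : B, ρ (a : H) u := fun z hz =>
      avg_mem_fixSp (A := B) u z hz
    clear hc
    induction hcA using Subgroup.closure_induction with
    | mem z hz =>
      rcases hz with hz | hz
      · rw [map_sum]
        refine Finset.sum_congr rfl fun a _ => ?_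
        rw [← rho_mul_apply, hab z (hB'.1 hz) _ (hB.1 a.2), rho_mul_apply, hu z hz]
      · exact hAB z ((Subgroup.zpowers_le.2 hxB) hz)
    | one => rw [map_one]; rfl
    | mul p q _ _ hp hq => rw [rho_mul_apply, hq, hp]
    | inv p _ hp => conv_lhs => rw [← hp, rho_inv_apply]

theorem mul_self_eq_one : ∀ t : ZMod 3, t ≠ 0 → t * t = 1 := by decide

/-- A normal elementary abelian subgroup of `R` has prime order, or is a monomial `2`-group. -/
theorem prime_or_monomial (S : Setup ρ R b Q) [A.Normal] (hA : A ≠ ⊥) (hAR : A ≤ R) (hr : r.Prime)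
    (hab : ∀ a ∈ A, ∀ c ∈ A, a * c = c * a) (hexp : ∀ a ∈ A, a ^ r = 1) :
    (∀ x ∈ A, x ≠ 1 → A ≤ Subgroup.zpowers x) ∨ Monomial ρ A b := by
  classical
  haveI : Fact (Nat.Prime 3) := ⟨Nat.prime_three⟩
  have hr3 : r ≠ 3 := by
    obtain ⟨⟨a, ha⟩, ha1⟩ := Subgroup.ne_bot_iff_exists_ne_one.1 hA
    rintro rfl
    have ho := orderOf_eq_prime (hexp a ha) (fun h => ha1 (Subtype.ext h))
    have h2 := Subgroup.orderOf_dvd_natCard _ (hAR ha)
    rw [ho] at h2
    exact absurd (Nat.eq_one_of_dvd_coprimes S.cop h2 dvd_rfl) (by norm_num)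
  have h0 : fixSp ρ A = ⊥ := S.fixSp_normal hA
  have hW : (⊤ : Submodule 𝕜 W) ≠ ⊥ := fun h => hA ((Subgroup.eq_bot_iff_forall _).2 fun a _ =>
    S.eq_one_of_fix fun w => by
      have hw : w = 0 := (Submodule.eq_bot_iff _).1 h w trivial
      rw [hw, map_zero])
  obtain ⟨B₁, hB₁⟩ := exists_hyp S hA hr hr3 hab hexp hW
  have indep : ∀ B, IsHyp ρ A B → ∀ u ∈ fixSp ρ B, u ≠ 0 →
      u ∉ ⨆ B' : {B' // IsHyp ρ A B' ∧ B' ≠ B}, fixSp ρ B'.1 := by
    intro B hB u hu hu0 hmem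
    obtain ⟨e, he, hc, he'⟩ := sep S hA hAR hab hB
    have : e u = 0 := LinearMap.mem_ker.1 ((iSup_le (fun B' => fun w hw =>
      LinearMap.mem_ker.2 (he' B'.1 B'.2.1 B'.2.2 w hw)) : _ ≤ LinearMap.ker e) hmem)
    rw [he u hu] at this
    exact hu0 ((smul_eq_zero.1 this).resolve_left hc)
  by_cases hmov : ∃ B, IsHyp ρ A B ∧ B.map (MulAut.conj b).toMonoidHom ≠ B
  swap
  · -- every weight space is invariant
    push Not at hmov
    left
    let K : Subgroup H :=
      { carrier := {g | ∀ B, IsHyp ρ A B → B.map (MulAut.conj g).toMonoidHom = B}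
        one_mem' := fun B _ => map_conj_one B
        mul_mem' := fun {g h} hg hh B hB => by rw [← map_conj_map, hh B hB, hg B hB]
        inv_mem' := fun {g} hg B hB => by
          conv_lhs => rw [← hg B hB, map_conj_map, inv_mul_cancel, map_conj_one] }
    haveI : K.Normal := ⟨fun k hk g B hB => by
      have := hk _ (isHyp_conj hB g⁻¹)
      rw [map_conj_map] at this
      rw [← map_conj_map, ← map_conj_map, map_conj_map k g⁻¹, this, map_conj_map, mul_inv_cancel,
        map_conj_one]⟩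
    have hK : K = ⊤ := S.eq_top_of_mem (K := K) hmov
    have hinv : ∀ g w, w ∈ fixSp ρ B₁ → ρ g w ∈ fixSp ρ B₁ := fun g w hw =>
      rho_fixSp (fun a ha => by
        have hg : g ∈ K := hK ▸ Subgroup.mem_top g
        rw [← hg B₁ hB₁] at ha
        exact mem_map_conj.1 ha) hw
    have htop := (S.irr _ fun g w hw => hinv g w hw).resolve_left hB₁.2.1
    have hbot : B₁ = ⊥ := (Subgroup.eq_bot_iff_forall _).2 fun a ha => S.eq_one_of_fix fun w =>
      (htop ▸ Submodule.mem_top : w ∈ fixSp ρ B₁) a ha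
    intro x hx hx1
    have := hB₁.2.2 x hx (by rw [hbot, Subgroup.mem_bot]; exact hx1)
    rwa [hbot, bot_sup_eq] at this
  right
  obtain ⟨B₀, hB₀, hB₀b⟩ := hmov
  set cb := fun B : Subgroup H => B.map (MulAut.conj b).toMonoidHom with hcb
  have hb3 : ∀ B, cb (cb (cb B)) = B := fun B => by
    simp only [hcb]
    rw [map_conj_map, map_conj_map, show b * b * b = b ^ 3 by rw [pow_succ, pow_two], S.b3, map_conj_one]
  have hfree : ∀ B, cb B ≠ B → cb (cb B) ≠ B ∧ cb (cb B) ≠ cb B := fun B hB => by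
    refine ⟨fun h => hB ?_, fun h => hB ?_⟩
    · have h' := congrArg cb h
      rw [hb3] at h'
      exact h'.symm
    · have h' := congrArg cb (congrArg cb h)
      rw [hb3, hb3] at h'
      exact h' 
  have hrho : ∀ B, ∀ w ∈ fixSp ρ B, ρ b w ∈ fixSp ρ (cb B) := fun B w hw =>
    rho_fixSp (fun a ha => mem_map_conj.1 ha) hw
  have hrange : ∀ w, (ρ b - 1) w ∈ LinearMap.range (ρ b - 1) := fun w => LinearMap.mem_range_self _ w
  -- the image of `b - 1` sees two dimensions in each moved orbit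
  have key : ∀ B, IsHyp ρ A B → cb B ≠ B → ∀ u ∈ fixSp ρ B, ∀ v ∈ fixSp ρ B,
      ∀ e : Module.End 𝕜 W, (∀ w ∈ fixSp ρ B, e w = 0 → w = 0) →
      (∀ B', IsHyp ρ A B' → B' ≠ B → ∀ w ∈ fixSp ρ B', e w = 0) →
      e ((ρ b - 1) u + (ρ b - 1) (ρ b v)) = -e u := by
    intro B hB hBb u hu v hv e _ he
    have h2 := hfree B hBb
    have h1' : IsHyp ρ A (cb B) := isHyp_conj hB b
    have h2' : IsHyp ρ A (cb (cb B)) := isHyp_conj h1' b
    rw [LinearMap.sub_apply, LinearMap.sub_apply, Module.End.one_apply, Module.End.one_apply, map_add,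
      map_sub, map_sub, he _ h1' hBb _ (hrho B u hu), he _ h1' hBb _ (hrho B v hv),
      he _ h2' h2.1 _ (hrho _ _ (hrho B v hv))]
    abel
  have key2 : ∀ B, IsHyp ρ A B → cb B ≠ B → ∀ u ∈ fixSp ρ B, ∀ v ∈ fixSp ρ B,
      (ρ b - 1) u + (ρ b - 1) (ρ b v) = 0 → u = 0 ∧ v = 0 := by
    intro B hB hBb u hu v hv h
    obtain ⟨e, he, hc, he'⟩ := sep S hA hAR hab hB
    have hu0 : u = 0 := by
      have h1 := key B hB hBb u hu v hv e (fun w hw hew => by
        rw [he w hw] at hew; exact (smul_eq_zero.1 hew).resolve_left hc) he'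
      rw [h, map_zero, zero_eq_neg, he u hu] at h1
      exact (smul_eq_zero.1 h1).resolve_left hc
    refine ⟨hu0, ?_⟩
    rw [hu0, map_zero, zero_add, LinearMap.sub_apply, Module.End.one_apply, sub_eq_zero] at h
    by_contra hv0
    have hb0 : ρ b v ≠ 0 := fun h' => hv0 (by rw [← rho_inv_apply (ρ := ρ) b v, h', map_zero])
    refine indep _ (isHyp_conj hB b) (ρ b v) (hrho B v hv) hb0 ?_
    have hm : ρ b (ρ b v) ∈ fixSp ρ (cb (cb B)) := hrho _ _ (hrho B v hv)
    rw [h] at hm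
    exact Submodule.mem_iSup_of_mem (⟨cb (cb B), isHyp_conj (isHyp_conj hB b) b,
      (hfree B hBb).2⟩ : {B' // IsHyp ρ A B' ∧ B' ≠ cb B}) hm
  have hrk2 : ∀ B, IsHyp ρ A B → cb B ≠ B → Module.finrank 𝕜 (fixSp ρ B) = 1 := by
    intro B hB hBb
    let F : fixSp ρ B × fixSp ρ B →ₗ[𝕜] LinearMap.range (ρ b - 1) :=
      LinearMap.codRestrict _ (LinearMap.coprod ((ρ b - 1).comp (fixSp ρ B).subtype)
        (((ρ b - 1).comp (ρ b)).comp (fixSp ρ B).subtype)) (fun p =>
        Submodule.add_mem _ (hrange _) (hrange _))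
    have hF : Function.Injective F := (injective_iff_map_eq_zero F).2 fun p hp => by
      obtain ⟨h1, h2⟩ := key2 B hB hBb p.1 p.1.2 p.2 p.2.2 (congrArg Subtype.val hp)
      exact Prod.ext (Subtype.ext h1) (Subtype.ext h2)
    have h1 := (LinearMap.finrank_le_finrank_of_injective hF).trans S.rk
    rw [Module.finrank_prod] at h1
    have h2 : Module.finrank 𝕜 (fixSp ρ B) ≠ 0 := fun h => hB.2.1 (Submodule.finrank_eq_zero.1 h)
    omega
  have horb : ∀ B, IsHyp ρ A B → cb B ≠ B → B = B₀ ∨ B = cb B₀ ∨ B = cb (cb B₀) := by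
    intro B hB hBb
    by_contra hno
    push Not at hno
    obtain ⟨u, hu, hu0⟩ := (Submodule.ne_bot_iff _).1 hB.2.1
    obtain ⟨v, hv, hv0⟩ := (Submodule.ne_bot_iff _).1 hB₀.2.1
    obtain ⟨e, he, hc, he'⟩ := sep S hA hAR hab hB
    let F : (fixSp ρ B₀ × fixSp ρ B₀) × 𝕜 →ₗ[𝕜] LinearMap.range (ρ b - 1) :=
      LinearMap.codRestrict _ (LinearMap.coprod (LinearMap.coprod ((ρ b - 1).comp (fixSp ρ B₀).subtype)
        (((ρ b - 1).comp (ρ b)).comp (fixSp ρ B₀).subtype))
        (LinearMap.toSpanSingleton 𝕜 W ((ρ b - 1) u))) (fun p => by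
          refine Submodule.add_mem _ (Submodule.add_mem _ (hrange _) (hrange _)) ?_
          exact Submodule.smul_mem _ _ (hrange u))
    have hF : Function.Injective F := (injective_iff_map_eq_zero F).2 fun p hp => by
      have hp' : (ρ b - 1) (p.1.1 : W) + (ρ b - 1) (ρ b (p.1.2 : W)) + p.2 • (ρ b - 1) u = 0 :=
        congrArg Subtype.val hp
      have hcol : ∀ w ∈ fixSp ρ B₀, e w = 0 ∧ e (ρ b w) = 0 ∧ e (ρ b (ρ b w)) = 0 := fun w hw =>
        ⟨he' _ hB₀ (Ne.symm hno.1) w hw, he' _ (isHyp_conj hB₀ b) (Ne.symm hno.2.1) _ (hrho _ _ hw),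
          he' _ (isHyp_conj (isHyp_conj hB₀ b) b) (Ne.symm hno.2.2) _ (hrho _ _ (hrho _ _ hw))⟩
      have hp2 : p.2 = 0 := by
        have h := congrArg e hp'
        simp only [LinearMap.sub_apply, Module.End.one_apply, map_add, map_sub, map_smul, map_zero,
          (hcol _ p.1.1.2).1, (hcol _ p.1.1.2).2.1, (hcol _ p.1.2.2).2.1, (hcol _ p.1.2.2).2.2,
          he' _ (isHyp_conj hB b) hBb _ (hrho B u hu), sub_zero, zero_add, zero_sub, he u hu,
          smul_neg, neg_eq_zero] at h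
        exact ((smul_eq_zero.1 h).resolve_right (smul_ne_zero hc hu0))
      rw [hp2, zero_smul, add_zero] at hp'
      obtain ⟨h1, h2⟩ := key2 B₀ hB₀ hB₀b p.1.1 p.1.1.2 p.1.2 p.1.2.2 hp'
      exact Prod.ext (Prod.ext (Subtype.ext h1) (Subtype.ext h2)) hp2
    have h1 := (LinearMap.finrank_le_finrank_of_injective hF).trans S.rk
    rw [Module.finrank_prod, Module.finrank_prod, hrk2 B₀ hB₀ hB₀b, Module.finrank_self] at h1
    omega
  -- transitivity
  let orb : Submodule 𝕜 W := ⨆ g : H, fixSp ρ (B₀.map (MulAut.conj g).toMonoidHom)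
  have horbtop : orb = ⊤ := by
    refine (S.irr orb fun g w hw => ?_).resolve_left fun h => hB₀.2.1 ?_
    · have hle : orb ≤ orb.comap (ρ g) := iSup_le fun g' => fun w hw =>
        Submodule.mem_iSup_of_mem (g * g') (rho_fixSp (fun a ha => by
          rw [← map_conj_map] at ha; exact mem_map_conj.1 ha) hw)
      exact hle hw
    · refine eq_bot_iff.2 (le_trans ?_ h.le)
      have := le_iSup (fun g : H => fixSp ρ (B₀.map (MulAut.conj g).toMonoidHom)) 1
      rwa [map_conj_one] at this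
  have htrans : ∀ B, IsHyp ρ A B → ∃ g : H, B₀.map (MulAut.conj g).toMonoidHom = B := by
    intro B hB
    by_contra hno
    push Not at hno
    obtain ⟨u, hu, hu0⟩ := (Submodule.ne_bot_iff _).1 hB.2.1
    refine indep B hB u hu hu0 ?_
    have hle : orb ≤ ⨆ B' : {B' // IsHyp ρ A B' ∧ B' ≠ B}, fixSp ρ B'.1 := iSup_le fun g =>
      le_iSup (fun B' : {B' // IsHyp ρ A B' ∧ B' ≠ B} => fixSp ρ B'.1) ⟨_, isHyp_conj hB₀ g, hno g⟩
    exact hle (horbtop ▸ Submodule.mem_top)
  have hline : ∀ B, IsHyp ρ A B → Module.finrank 𝕜 (fixSp ρ B) = 1 := by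
    intro B hB
    obtain ⟨g, rfl⟩ := htrans B hB
    have h1 : Module.finrank 𝕜 (fixSp ρ (B₀.map (MulAut.conj g).toMonoidHom)) ≤
        Module.finrank 𝕜 (fixSp ρ B₀) := by
      refine LinearMap.finrank_le_finrank_of_injective (f := LinearMap.codRestrict (fixSp ρ B₀)
        ((ρ g⁻¹).comp (fixSp ρ (B₀.map (MulAut.conj g).toMonoidHom)).subtype) fun w =>
          rho_fixSp (fun a ha => by
            rw [inv_inv, mem_map_conj, show g⁻¹ * (g * a * g⁻¹) * g = a by group]; exact ha) w.2) ?_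
      intro w w' e
      have e' : ρ g⁻¹ (w : W) = ρ g⁻¹ (w' : W) := congrArg Subtype.val e
      have := congrArg (ρ g) e'
      rw [rho_apply_inv, rho_apply_inv] at this
      exact Subtype.ext this
    have h2 : Module.finrank 𝕜 (fixSp ρ (B₀.map (MulAut.conj g).toMonoidHom)) ≠ 0 :=
      fun h => hB.2.1 (Submodule.finrank_eq_zero.1 h)
    rw [hrk2 B₀ hB₀ hB₀b] at h1
    omega
  refine ⟨?_, hline, ?_, indep, ?_, B₀, hB₀, hB₀b, ?_⟩
  · -- each element acts on each line as a sign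
    intro a ha
    refine S.eq_one_of_fix fun w => ?_
    suffices h : (⊤ : Submodule 𝕜 W) ≤ LinearMap.ker (ρ (a * a) - 1) by
      have := LinearMap.mem_ker.1 (h (Submodule.mem_top : w ∈ ⊤))
      rwa [LinearMap.sub_apply, Module.End.one_apply, sub_eq_zero] at this
    rw [← horbtop]
    refine iSup_le fun g w hw => LinearMap.mem_ker.2 ?_
    rw [LinearMap.sub_apply, Module.End.one_apply, sub_eq_zero]
    set B := B₀.map (MulAut.conj g).toMonoidHom
    rcases eq_or_ne w 0 with rfl | hw0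
    · rw [map_zero]
    have hm : ρ a w ∈ fixSp ρ B := fun c hc => by
      rw [← rho_mul_apply, hab c ((isHyp_conj hB₀ g).1 hc) a ha, rho_mul_apply, hw c hc]
    obtain ⟨t, ht⟩ := (finrank_eq_one_iff_of_nonzero' (⟨w, hw⟩ : fixSp ρ B)
      (fun h => hw0 (congrArg Subtype.val h))).1 (hline B (isHyp_conj hB₀ g)) ⟨ρ a w, hm⟩
    have ht' : t • w = ρ a w := congrArg Subtype.val ht
    rw [rho_mul_apply, ← ht', map_smul, ← ht', smul_smul]
    have : t ≠ 0 := fun h => hw0 (by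
      rw [h, zero_smul] at ht'; rw [← rho_inv_apply (ρ := ρ) a w, ← ht', map_zero])
    rw [mul_self_eq_one t this, one_smul]
  · rw [← top_le_iff, ← horbtop]
    exact iSup_le fun g =>
      le_iSup (fun B : {B // IsHyp ρ A B} => fixSp ρ B.1) ⟨_, isHyp_conj hB₀ g⟩
  · intro B B' hB hB'
    obtain ⟨g, rfl⟩ := htrans B hB
    obtain ⟨g', rfl⟩ := htrans B' hB'
    exact ⟨g' * g⁻¹, by rw [map_conj_map, inv_mul_cancel_right]⟩
  · intro B hB hBb
    have := horb B hB hBb
    simp only [hcb] at this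
    rwa [map_conj_map] at this

end Cfsg.Agent.Lib.JordanThree
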